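import Groth.Agent.Hopf.HM.Linear
import Groth.Agent.Hopf.Luna.Orbit
import Mathlib.RingTheory.Spectrum.Prime.Topology
import Mathlib.RingTheory.Localization.FractionRing

/-!
# The numerical criterion
-/

set_option autoImplicit false
set_option linter.unusedSectionVars false

universe u

open TensorProduct Matrix LaurentPolynomial WithConv

noncomputable section

namespace Groth.ComodLib.HM

variable {k : Type u} [Field k]

/-- a rational maximal ideal of an image is dominated by a discrete valuation ring -/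
theorem exists_dvr_of_maximal {R : Type u} [CommRing R] [Algebra k R] [Algebra.FiniteType k R] {L : Type u} [Field L]
    [Algebra k L] [Algebra.EssFiniteType k L] (ψ : R →ₐ[k] L) (m : Ideal R) [m.IsMaximal] (hker : RingHom.ker ψ ≤ m)
    (hne : ∃ x ∈ m, ψ x ≠ 0) :
    ∃ V : ValuationSubring L, IsDiscreteValuationRing V ∧ (∀ x, ψ x ∈ V) ∧ ∀ x ∈ m, ∀ w ∈ V, ψ x * w ≠ 1 := by
  have : IsNoetherianRing R := Algebra.FiniteType.isNoetherianRing k R
  have : IsNoetherianRing (Localization.AtPrime m) := IsLocalization.isNoetherianRing m.primeCompl _ inferInstance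
  have hu : ∀ y : m.primeCompl, IsUnit (ψ.toRingHom y) := fun y =>
    isUnit_iff_ne_zero.2 fun h => y.2 (hker (RingHom.mem_ker.2 h))
  let φ : Localization.AtPrime m →+* L := IsLocalization.lift hu
  have hφ : ∀ x, φ (algebraMap R _ x) = ψ x := IsLocalization.lift_eq hu
  have hess : φ.EssFiniteType := by
    refine RingHom.EssFiniteType.of_comp ((algebraMap R (Localization.AtPrime m)).comp (algebraMap k R)) (g := φ) ?_
    rw [show φ.comp ((algebraMap R (Localization.AtPrime m)).comp (algebraMap k R)) = algebraMap k L from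
      RingHom.ext fun c => (hφ _).trans (ψ.commutes c)]
    exact RingHom.essFiniteType_algebraMap.2 inferInstance
  have h0 : ∃ r ∈ IsLocalRing.maximalIdeal (Localization.AtPrime m), φ r ≠ 0 := by
    obtain ⟨x, hx, hx0⟩ := hne
    exact ⟨algebraMap R _ x, (IsLocalization.AtPrime.to_map_mem_maximal_iff _ m x).2 hx, by rwa [hφ]⟩
  obtain ⟨V, hV, hdvr, hloc⟩ := Groth.Limits.exists_dvr_valuationSubring φ hess h0
  refine ⟨V, hdvr, fun x => hφ x ▸ hV _, fun x hx w hw hxw => ?_⟩
  have hunit : IsUnit (φ.codRestrict V.toSubring hV (algebraMap R _ x)) :=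
    IsUnit.of_mul_eq_one ⟨w, hw⟩ (Subtype.ext ((congrArg (· * w) (hφ x)).trans hxw))
  exact (IsLocalRing.mem_maximalIdeal _).1 ((IsLocalization.AtPrime.to_map_mem_maximal_iff _ m x).2 hx)
    (hloc.map_nonunit _ hunit)

variable {A : Type u} [CommRing A] [HopfAlgebra k A] [Algebra.FiniteType k A]
  {ι : Type u} [Fintype ι] [HopfRep.Comod k A (MvPolynomial ι k)] [GLin.IsCoactAlg k A (MvPolynomial ι k)]

theorem map_conv_mul [DecidableEq ι] {M : Matrix ι ι A} (hM : IsComultMat k M) {B : Type u} [CommRing B] [Algebra k B]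
    (a b : WithConv (A →ₐ[k] B)) : M.map (a * b).ofConv = M.map a.ofConv * M.map b.ofConv := by
  ext i j
  rw [Matrix.map_apply, Matrix.mul_apply]
  change ((Algebra.TensorProduct.lmul' k).comp (Algebra.TensorProduct.map a.ofConv b.ofConv))
    (Coalgebra.comul (R := k) (M i j)) = _
  rw [((isComultMat_iff M).1 hM).1, map_sum]
  simp

theorem map_conv_one [DecidableEq ι] {M : Matrix ι ι A} (hM : IsComultMat k M) {B : Type u} [CommRing B] [Algebra k B] :
    M.map (1 : WithConv (A →ₐ[k] B)).ofConv = 1 := by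
  ext i j
  rw [Matrix.map_apply, Matrix.one_apply]
  change algebraMap k B (Coalgebra.counit (R := k) (M i j)) = _
  rw [((isComultMat_iff M).1 hM).2]
  split_ifs <;> simp

theorem const_conv_mul {B : Type u} [CommRing B] [Algebra k B] (p q : WithConv (A →ₐ[k] k)) :
    toConv ((Algebra.ofId k B).comp p.ofConv) * toConv ((Algebra.ofId k B).comp q.ofConv) =
      toConv ((Algebra.ofId k B).comp (p * q).ofConv) := by
  apply WithConv.ofConv_injective
  refine AlgHom.ext fun x => ?_
  change ((Algebra.TensorProduct.lmul' k).comp (Algebra.TensorProduct.map ((Algebra.ofId k B).comp p.ofConv)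
      ((Algebra.ofId k B).comp q.ofConv))) (Coalgebra.comul (R := k) x) =
    Algebra.ofId k B (((Algebra.TensorProduct.lmul' k).comp (Algebra.TensorProduct.map p.ofConv q.ofConv))
      (Coalgebra.comul (R := k) x))
  induction Coalgebra.comul (R := k) x using TensorProduct.induction_on with
  | zero => simp
  | tmul c d => simp
  | add c d hc hd => simp only [map_add, hc, hd]

theorem slice_comul_coeff (p : k[T;T⁻¹]) (n m : ℤ) :
    TensorProduct.lid k k (TensorProduct.map (Finsupp.lapply n ∘ₗ (AddMonoidAlgebra.coeffLinearEquiv k).toLinearMap)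
      (Finsupp.lapply m ∘ₗ (AddMonoidAlgebra.coeffLinearEquiv k).toLinearMap) (Coalgebra.comul (R := k) p)) =
      if n = m then p.coeff n else 0 := by
  induction p using LaurentPolynomial.induction_on' with
  | add p q hp hq => simp only [map_add, AddMonoidAlgebra.coeff_add, Finsupp.add_apply, hp, hq]; split_ifs <;> simp
  | C_mul_T l a =>
    have hT : ∀ j, (T l : k[T;T⁻¹]).coeff j = if l = j then (1 : k) else 0 := fun j => by
      have := coeff_C_mul_T (1 : k) l j
      rwa [map_one, one_mul] at this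
    rw [coeff_C_mul_T, ← LaurentPolynomial.smul_eq_C_mul, map_smul, comul_T, map_smul, map_smul,
      TensorProduct.map_tmul, TensorProduct.lid_tmul]
    simp only [LinearMap.comp_apply, LinearEquiv.coe_coe, AddMonoidAlgebra.coeffLinearEquiv_apply, Finsupp.lapply_apply,
      hT, smul_eq_mul]
    split_ifs <;> first | (exfalso; omega) | simp | omega

variable [IsAlgClosed k]

/-- a stable vector has no limit along a non-trivial one-parameter subgroup -/
theorem trivial_of_stable (hlin : GLin.IsLinear k A ι) (v : ι → k) (hst : GLin.IsStableVec k A v)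
    (lam : A →ₐc[k] k[T;T⁻¹]) (hlim : ∀ i n, n < 0 → (GitQuot.lamCoord lam v i).coeff n = 0) :
    SGA3t2b.IsTrivialBialgHom lam := by
  classical
  obtain ⟨hcl, hfin⟩ := hst
  obtain ⟨M, hM, horb⟩ := exists_comultMat (k := k) (A := A) hlin
  let L : WithConv (A →ₐ[k] k[T;T⁻¹]) := toConv (lam : A →ₐ[k] k[T;T⁻¹])
  let Lm : Matrix ι ι k[T;T⁻¹] := M.map L.ofConv
  let P : ℤ → Matrix ι ι k := fun n => Lm.map fun p => p.coeff n
  have hPP : ∀ n m i j, ∑ l, P n i l * P m l j = if n = m then P n i j else 0 := by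
    intro n m i j
    have h := slice_comul_coeff (Lm i j) n m
    change TensorProduct.lid k k (TensorProduct.map _ _ (Coalgebra.comul (R := k) (lam (M i j)))) = _ at h
    rw [← CoalgHomClass.map_comp_comul_apply lam, ((isComultMat_iff M).1 hM).1, map_sum, map_sum, map_sum] at h
    simpa [P, Lm, L] using h
  have hcoord : ∀ (w : ι → k) i n, (GitQuot.lamCoord lam w i).coeff n = ∑ l, w l * P n l i := by
    intro w i n
    change ((lam : A →ₐ[k] k[T;T⁻¹]) (GLin.orbitHom k A (GLin.vecPt k ι w) (MvPolynomial.X i))).coeff n = _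
    rw [horb, map_sum]
    simp [P, Lm, L, AddMonoidAlgebra.coeff_sum]
  let y : ι → k := fun i => (GitQuot.lamCoord lam v i).coeff 0
  obtain ⟨h, h1, h2⟩ := (GitQuot.exists_lift_iff (GitQuot.lamCoord lam v) y).2 ⟨hlim, fun i => rfl⟩
  rw [← GitQuot.lamOrbit_eq_aeval] at h1
  have hle : RingHom.ker (GLin.orbitHom k A (GLin.vecPt k ι v)) ≤ RingHom.ker (GLin.vecPt k ι y) := by
    intro f hf
    have e := AlgHom.congr_fun h1 f
    rw [GLin.lamOrbit, AlgHom.comp_apply, AlgHom.comp_apply, RingHom.mem_ker.1 hf, map_zero,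
      Polynomial.toLaurentAlg_apply] at e
    have e0 : h f = 0 := Polynomial.toLaurent_injective (e.trans (map_zero _).symm)
    have e2 := AlgHom.congr_fun h2 f
    rw [AlgHom.comp_apply, e0, map_zero] at e2
    exact RingHom.mem_ker.2 e2.symm
  obtain ⟨g0, hg0⟩ := Luna.exists_actPt_eq hcl hle
  let C0 : (A →ₐ[k] k) → WithConv (A →ₐ[k] k[T;T⁻¹]) := fun g => toConv ((Algebra.ofId k k[T;T⁻¹]).comp g)
  let G : WithConv (A →ₐ[k] k) := toConv g0
  have hC1 : C0 (1 : WithConv (A →ₐ[k] k)).ofConv = 1 := rfl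
  let a : WithConv (A →ₐ[k] k[T;T⁻¹]) := C0 G.ofConv * L * C0 G⁻¹.ofConv
  let cv : ι → k[T;T⁻¹] := fun i => LaurentPolynomial.C (v i)
  have hyv : cv ᵥ* M.map (C0 G.ofConv).ofConv = fun i => LaurentPolynomial.C (y i) := by
    funext i
    have e := AlgHom.congr_fun hg0 (MvPolynomial.X i)
    change g0 (GLin.orbitHom k A (GLin.vecPt k ι v) (MvPolynomial.X i)) = MvPolynomial.aeval y (MvPolynomial.X i) at e
    rw [horb, MvPolynomial.aeval_X] at e
    rw [← e]
    simp [Matrix.vecMul, dotProduct, C0, G, cv]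
  have hyL : (fun i => LaurentPolynomial.C (y i)) ᵥ* Lm = fun i => LaurentPolynomial.C (y i) := by
    funext i
    refine LaurentPolynomial.ext fun n => ?_
    have hr : (((fun i => LaurentPolynomial.C (y i)) ᵥ* Lm) i).coeff n = ∑ l, y l * P n l i := by
      simp only [Matrix.vecMul, dotProduct, AddMonoidAlgebra.coeff_sum, Finsupp.finsetSum_apply,
        ← LaurentPolynomial.smul_eq_C_mul, AddMonoidAlgebra.coeff_smul, Finsupp.smul_apply, smul_eq_mul]
      rfl
    rw [hr]
    simp only [y, hcoord, Finset.sum_mul]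
    rw [Finset.sum_comm]
    simp only [mul_assoc, ← Finset.mul_sum, hPP]
    have hc := coeff_C_mul_T (∑ l, v l * P 0 l i) 0 n
    rw [T_zero, mul_one] at hc
    rw [hc]
    split_ifs <;> simp
  have hmat : cv ᵥ* M.map a.ofConv = cv := by
    rw [map_conv_mul hM, map_conv_mul hM, ← Matrix.vecMul_vecMul, ← Matrix.vecMul_vecMul, hyv]
    change (((fun i => LaurentPolynomial.C (y i)) ᵥ* Lm) ᵥ* _) = cv
    rw [hyL, ← hyv, Matrix.vecMul_vecMul, ← map_conv_mul hM, const_conv_mul, toConv_ofConv, mul_inv_cancel]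
    change cv ᵥ* M.map (1 : WithConv (A →ₐ[k] k[T;T⁻¹])).ofConv = cv
    rw [map_conv_one hM, Matrix.vecMul_one]
  have hfix : a.ofConv.comp (GLin.orbitHom k A (GLin.vecPt k ι v)) =
      (Algebra.ofId k k[T;T⁻¹]).comp (GLin.vecPt k ι v) := by
    refine MvPolynomial.algHom_ext fun i => ?_
    have e := congrFun hmat i
    rw [AlgHom.comp_apply, horb, map_sum, AlgHom.comp_apply, MvPolynomial.aeval_X]
    simp only [map_smul]
    refine Eq.trans ?_ (e.trans rfl)
    simp [Matrix.vecMul, dotProduct, cv, LaurentPolynomial.smul_eq_C_mul]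
  have hkill : ∀ x ∈ GLin.stabIdeal k A (GLin.vecPt k ι v), a.ofConv x = 0 := by
    have hle' : GLin.stabIdeal k A (GLin.vecPt k ι v) ≤ RingHom.ker a.ofConv := by
      refine Ideal.map_le_iff_le_comap.2 fun f hf => ?_
      have := AlgHom.congr_fun hfix f
      rw [AlgHom.comp_apply, AlgHom.comp_apply, RingHom.mem_ker.1 hf, map_zero] at this
      exact this
    exact fun x hx => hle' hx
  let a' := Ideal.Quotient.liftₐ (GLin.stabIdeal k A (GLin.vecPt k ι v)) a.ofConv hkill
  have hconst : ∀ x, ∃ c : k, a.ofConv x = algebraMap k _ c := by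
    intro x
    have hfin' : Module.Finite k (A ⧸ GLin.stabIdeal k A (GLin.vecPt k ι v)) := hfin
    have : Module.Finite k a'.range :=
      Module.Finite.of_surjective a'.rangeRestrict.toLinearMap a'.rangeRestrict_surjective
    obtain ⟨c, hc⟩ := (IsAlgClosed.algebraMap_bijective_of_isIntegral (k := k) (K := a'.range)).2
      (a'.rangeRestrict (Ideal.Quotient.mk _ x))
    exact ⟨c, (congrArg Subtype.val hc).symm⟩
  let p : A →ₐ[k] k := (Bialgebra.counitAlgHom k k[T;T⁻¹]).comp a.ofConv
  have hap : a = C0 p := by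
    apply WithConv.ofConv_injective
    refine AlgHom.ext fun x => ?_
    obtain ⟨c, hc⟩ := hconst x
    change a.ofConv x = algebraMap k _ (Coalgebra.counit (R := k) (a.ofConv x))
    rw [hc, Bialgebra.counit_algebraMap]
  have hL : L = C0 (G⁻¹ * toConv p * G).ofConv := by
    have e : L = C0 G⁻¹.ofConv * a * C0 G.ofConv := by
      have i1 : C0 G⁻¹.ofConv * C0 G.ofConv = 1 := by
        rw [const_conv_mul, toConv_ofConv, inv_mul_cancel]; exact hC1
      change L = C0 G⁻¹.ofConv * (C0 G.ofConv * L * C0 G⁻¹.ofConv) * C0 G.ofConv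
      calc L = 1 * L * 1 := by rw [one_mul, mul_one]
        _ = (C0 G⁻¹.ofConv * C0 G.ofConv) * L * (C0 G⁻¹.ofConv * C0 G.ofConv) := by rw [i1]
        _ = _ := by simp only [mul_assoc]
    rw [e, hap, const_conv_mul, toConv_ofConv, const_conv_mul]
  intro x
  have e1 : lam x = algebraMap k k[T;T⁻¹] ((G⁻¹ * toConv p * G).ofConv x) :=
    congrArg (fun w : WithConv (A →ₐ[k] k[T;T⁻¹]) => w.ofConv x) hL
  have e2 := congrArg (Coalgebra.counit (R := k)) e1
  rw [CoalgHomClass.counit_comp_apply, Bialgebra.counit_algebraMap] at e2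
  rw [e1, ← e2]

variable [CharZero k]

/-- a vector which is not stable has a limit along a non-trivial one-parameter subgroup -/
theorem exists_lam_of_not_stable (hG : HopfRep.IsLinearlyReductive k A) (hlin : GLin.IsLinear k A ι) (v : ι → k)
    (hst : ¬ GLin.IsStableVec k A v) :
    ∃ lam : A →ₐc[k] k[T;T⁻¹], ¬ SGA3t2b.IsTrivialBialgHom lam ∧
      ∀ i n, n < 0 → (GitQuot.lamCoord lam v i).coeff n = 0 := by
  classical
  let φ := GLin.orbitHom k A (GLin.vecPt k ι v)
  -- the orbit map is not integral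
  obtain ⟨a, ha⟩ : ∃ a : A, ¬ φ.toRingHom.IsIntegralElem a := by
    by_contra hint
    push Not at hint
    refine hst ⟨?_, ?_⟩
    · have := PrimeSpectrum.isClosedMap_comap_of_isIntegral φ.toRingHom hint Set.univ isClosed_univ
      rwa [Set.image_univ] at this
    · letI := φ.toRingHom.toAlgebra
      haveI : IsScalarTower k (MvPolynomial ι k) A := IsScalarTower.of_algebraMap_eq fun c => (φ.commutes c).symm
      haveI : Algebra.FiniteType (MvPolynomial ι k) A := Algebra.FiniteType.of_restrictScalars_finiteType k _ A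
      haveI : Algebra.IsIntegral (MvPolynomial ι k) A := ⟨hint⟩
      haveI : Module.Finite (MvPolynomial ι k) A := Algebra.IsIntegral.finite
      obtain ⟨s, hs⟩ := (Module.Finite.fg_top (R := MvPolynomial ι k) (M := A))
      let mk := Ideal.Quotient.mkₐ k (GLin.stabIdeal k A (GLin.vecPt k ι v))
      refine ⟨⟨s.image mk, ?_⟩⟩
      rw [eq_top_iff, Finset.coe_image]
      rintro x -
      obtain ⟨x, rfl⟩ := Ideal.Quotient.mk_surjective x
      have hx : x ∈ Submodule.span (MvPolynomial ι k) (s : Set A) := by rw [hs]; exact Submodule.mem_top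
      induction hx using Submodule.span_induction with
      | mem w hw => exact Submodule.subset_span ⟨w, hw, rfl⟩
      | zero => rw [map_zero]; exact zero_mem _
      | add w w' _ _ h h' => rw [map_add]; exact add_mem h h'
      | smul r w _ h =>
        have hr : mk (φ r) = algebraMap k _ (GLin.vecPt k ι v r) := by
          rw [← sub_eq_zero, ← mk.commutes, ← map_sub, ← φ.commutes, ← map_sub]
          refine Ideal.Quotient.eq_zero_iff_mem.2 (Ideal.mem_map_of_mem _ ?_)
          rw [RingHom.mem_ker, map_sub, AlgHom.commutes, Algebra.algebraMap_self, RingHom.id_apply, sub_self]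
        change mk (φ r * w) ∈ _
        rw [map_mul, hr, ← Algebra.smul_def]
        exact Submodule.smul_mem _ _ h
  -- a prime where it stays non-integral
  let Sm : Submonoid A :=
    { carrier := {x | ∃ p : Polynomial (MvPolynomial ι k), p.Monic ∧ p.eval₂ φ.toRingHom a = x}
      one_mem' := ⟨1, Polynomial.monic_one, Polynomial.eval₂_one _ _⟩
      mul_mem' := fun ⟨p, hp, hp'⟩ ⟨q, hq, hq'⟩ => ⟨p * q, hp.mul hq, by rw [Polynomial.eval₂_mul, hp', hq']⟩ }
  obtain ⟨Q, hQ, -, hdisj⟩ := Ideal.exists_le_prime_disjoint (⊥ : Ideal A) Sm (by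
    rw [Set.disjoint_left]
    intro x hx hx'
    obtain ⟨p, hp, hp'⟩ := hx'
    exact ha ⟨p, hp, hp'.trans ((Submodule.mem_bot A).1 hx)⟩)
  let L := FractionRing (A ⧸ Q)
  haveI : Algebra.EssFiniteType (A ⧸ Q) L := Algebra.EssFiniteType.of_isLocalization _ (nonZeroDivisors (A ⧸ Q))
  haveI : Algebra.EssFiniteType k L := Algebra.EssFiniteType.comp k (A ⧸ Q) L
  let a0 : A →ₐ[k] L := (IsScalarTower.toAlgHom k (A ⧸ Q) L).comp (Ideal.Quotient.mkₐ k Q)
  let ψ : MvPolynomial ι k →ₐ[k] L := a0.comp φ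
  have hnint : ∀ p : Polynomial (MvPolynomial ι k), p.Monic → p.eval₂ ψ.toRingHom (a0 a) ≠ 0 := by
    intro p hp he
    have e : p.eval₂ ψ.toRingHom (a0 a) = a0 (p.eval₂ φ.toRingHom a) := (Polynomial.hom_eval₂ p _ a0.toRingHom a).symm
    rw [e] at he
    refine Set.disjoint_left.1 hdisj ?_ ⟨p, hp, rfl⟩
    exact Ideal.Quotient.eq_zero_iff_mem.1 ((map_eq_zero_iff _ (IsFractionRing.injective (A ⧸ Q) L)).1 he)
  have hane : a0 a ≠ 0 := fun h => hnint Polynomial.X Polynomial.monic_X (by rw [Polynomial.eval₂_X, h])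
  let ψ' : MvPolynomial (Option ι) k →ₐ[k] L :=
    MvPolynomial.aeval fun o => o.elim (a0 a)⁻¹ fun i => ψ (MvPolynomial.X i)
  have htop : RingHom.ker ψ' ⊔ Ideal.span {MvPolynomial.X none} ≠ ⊤ := by
    intro htop
    obtain ⟨κ, hκ, z, hz, hsum⟩ := Submodule.mem_sup.1 ((Ideal.eq_top_iff_one _).1 htop)
    obtain ⟨p, rfl⟩ := Ideal.mem_span_singleton'.1 hz
    have e := congrArg ψ' hsum
    rw [map_add, RingHom.mem_ker.1 hκ, zero_add, map_mul, map_one] at e
    simp only [ψ', MvPolynomial.aeval_X, Option.elim_none] at e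
    have e' : ψ' p = a0 a := by
      have := congrArg (· * a0 a) e
      rwa [one_mul, mul_assoc, inv_mul_cancel₀ hane, mul_one] at this
    let P := MvPolynomial.optionEquivLeft k ι p
    have hP : ψ' p = P.eval₂ ψ.toRingHom (a0 a)⁻¹ := by
      have hcomp : ψ'.toRingHom =
          (Polynomial.eval₂RingHom ψ.toRingHom (a0 a)⁻¹).comp (MvPolynomial.optionEquivLeft k ι).toRingHom := by
        refine MvPolynomial.ringHom_ext (fun c => ?_) fun o => ?_
        · simp [ψ', MvPolynomial.optionEquivLeft]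
        · cases o <;> simp [ψ', MvPolynomial.optionEquivLeft]
      exact RingHom.congr_fun hcomp p
    letI : Invertible ((a0 a)⁻¹) := invertibleOfNonzero (inv_ne_zero hane)
    have hrefl := Polynomial.eval₂_reflect_mul_pow ψ.toRingHom (a0 a)⁻¹ P.natDegree P le_rfl
    rw [invOf_eq_inv, inv_inv, ← hP, e'] at hrefl
    have hdeg : (P.reflect P.natDegree).degree < ((P.natDegree + 1 : ℕ) : WithBot ℕ) := by
      refine (Polynomial.degree_le_natDegree).trans_lt (WithBot.coe_lt_coe.2 (Nat.lt_succ_of_le ?_))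
      exact Polynomial.reverse_natDegree_le P
    refine hnint (Polynomial.X ^ (P.natDegree + 1) - P.reflect P.natDegree)
      (Polynomial.monic_X_pow_sub hdeg) ?_
    rw [Polynomial.eval₂_sub, Polynomial.eval₂_X_pow, sub_eq_zero, pow_succ']
    rw [inv_pow, ← div_eq_mul_inv, div_eq_iff (pow_ne_zero _ hane)] at hrefl
    exact hrefl.symm
  obtain ⟨m, hm, hle⟩ := Ideal.exists_le_maximal _ htop
  obtain ⟨V, hdvr, hV, hnu⟩ := exists_dvr_of_maximal ψ' m (le_sup_left.trans hle)
    ⟨MvPolynomial.X none, hle (Ideal.mem_sup_right (Ideal.mem_span_singleton_self _)), by simp [ψ', hane]⟩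
  obtain ⟨lam, h1, -, h3⟩ := exists_lam_of_arc hG hlin v V (fun c => ψ'.commutes c ▸ hV _) a0 fun i => by
    have := hV (MvPolynomial.X (some i))
    simp only [ψ', MvPolynomial.aeval_X, Option.elim_some] at this
    exact this
  refine ⟨lam, h3 ⟨a, fun hmem => ?_⟩, h1⟩
  refine hnu (MvPolynomial.X none) (hle (Ideal.mem_sup_right (Ideal.mem_span_singleton_self _))) (a0 a) hmem ?_
  simp only [ψ', MvPolynomial.aeval_X, Option.elim_none]
  exact inv_mul_cancel₀ hane

/-- a nullform has limit zero along some one-parameter subgroup -/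
theorem exists_lam_of_closure (hG : HopfRep.IsLinearlyReductive k A) (hlin : GLin.IsLinear k A ι) (v : ι → k)
    (hv : v ≠ 0) (h0 : GLin.InOrbitClosure k A (GLin.vecPt k ι v) (GLin.vecPt k ι (fun _ => (0 : k)))) :
    ∃ lam : A →ₐc[k] k[T;T⁻¹], ∀ i n, n ≤ 0 → (GitQuot.lamCoord lam v i).coeff n = 0 := by
  classical
  let φ := GLin.orbitHom k A (GLin.vecPt k ι v)
  let x0 := GLin.vecPt k ι (fun _ => (0 : k))
  have hmax : (RingHom.ker x0).IsMaximal :=
    RingHom.ker_isMaximal_of_surjective x0 fun c => ⟨algebraMap k _ c, x0.commutes c⟩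
  obtain ⟨P, hP, hPle⟩ := Ideal.exists_minimalPrimes_le (J := RingHom.ker x0) (show RingHom.ker φ ≤ RingHom.ker x0 from h0)
  obtain ⟨Q, hQ, -, hQP⟩ := Ideal.exists_comap_eq_of_mem_minimalPrimes φ.toRingHom (I := ⊥) P
    (by rwa [← RingHom.ker_eq_comap_bot])
  let L := FractionRing (A ⧸ Q)
  haveI : Algebra.EssFiniteType (A ⧸ Q) L := Algebra.EssFiniteType.of_isLocalization _ (nonZeroDivisors (A ⧸ Q))
  haveI : Algebra.EssFiniteType k L := Algebra.EssFiniteType.comp k (A ⧸ Q) L
  let a0 : A →ₐ[k] L := (IsScalarTower.toAlgHom k (A ⧸ Q) L).comp (Ideal.Quotient.mkₐ k Q)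
  let ψ : MvPolynomial ι k →ₐ[k] L := a0.comp φ
  have hX : ∀ i, MvPolynomial.X i ∈ RingHom.ker x0 := fun i => by simp [x0, RingHom.mem_ker]
  have hker : RingHom.ker ψ ≤ RingHom.ker x0 := fun f hf => hPle (by
    rw [← hQP]
    exact (Ideal.Quotient.eq_zero_iff_mem.1 ((map_eq_zero_iff _ (IsFractionRing.injective (A ⧸ Q) L)).1 hf) : φ f ∈ Q))
  obtain ⟨i, hi⟩ : ∃ i, ψ (MvPolynomial.X i) ≠ 0 := by
    by_contra h
    push Not at h
    exact hv (eq_zero_of_coords_mem (k := k) hlin a0 h)
  obtain ⟨V, hdvr, hV, hnu⟩ := exists_dvr_of_maximal ψ (RingHom.ker x0) hker ⟨_, hX i, hi⟩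
  obtain ⟨lam, -, h2, -⟩ := exists_lam_of_arc hG hlin v V (fun c => ψ.commutes c ▸ hV _) a0 fun j => hV _
  exact ⟨lam, h2 fun j w hw => hnu _ (hX j) w hw⟩

end Groth.ComodLib.HM
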