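import Groth.Agent.Hopf.HM.Points
import Groth.Agent.Hopf.Luna.Stable
import Groth.Agent.Hopf.StabVec
import Mathlib.Algebra.TrivSqZeroExt.Basic
import Mathlib.RingTheory.Smooth.Basic

/-!
# The invariants separate tangent directions transversal to the subgroup
-/

set_option autoImplicit false
set_option linter.unusedSectionVars false

universe u

open TensorProduct Matrix

noncomputable section

namespace Groth.ComodLib.HM

variable {k : Type u} [Field k] {N : ℕ}
  {A : Type u} [CommRing A] [HopfAlgebra k A] (π : CoordGrp.GLn N k →ₐc[k] A)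

/-- invariants vanishing at the identity -/
def mS : Submodule k (CoordGrp.GLn N k) :=
  Subalgebra.toSubmodule (InvS π) ⊓ LinearMap.ker (glPt (k := k) (1 : GU N k)).toLinearMap

theorem mem_mS_iff {f : CoordGrp.GLn N k} : f ∈ mS π ↔ f ∈ InvS π ∧ glPt (1 : GU N k) f = 0 := Iff.rfl

theorem finiteType_GLn : Algebra.FiniteType k (CoordGrp.GLn N k) := by
  have h0 : Algebra.FiniteType k (CoordGrp.GLb N k) :=
    inferInstanceAs (Algebra.FiniteType k (MvPolynomial ((Fin N × Fin N) ⊕ Unit) k))
  exact Algebra.FiniteType.of_surjective (CoordGrp.GLn.mk N k) Ideal.Quotient.mk_surjective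

/-- the ideal they generate -/
def idealS : Ideal (CoordGrp.GLn N k) := Ideal.span (mS π : Set (CoordGrp.GLn N k))

theorem glPt_one_apply {R : Type u} [CommRing R] [Algebra k R] (f : CoordGrp.GLn N k) :
    glPt (1 : GU N R) f = algebraMap k R (glPt (1 : GU N k) f) := by
  rw [show (1 : GU N R) = gmap (Algebra.ofId k R) 1 from (map_one _).symm, glPt_gmap_apply]
  rfl

theorem idealS_le_ker : idealS π ≤ RingHom.ker (π : CoordGrp.GLn N k →ₐ[k] A) := by
  refine Ideal.span_le.2 fun f hf => ?_
  obtain ⟨hS, h1⟩ := hf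
  change (π : CoordGrp.GLn N k →ₐ[k] A) f = 0
  rw [← glPt_subU]
  have := invariant_mul π hS (1 : GU N A) (AlgHom.id k A)
  rw [one_mul, gmap_id, glPt_one_apply] at this
  rw [this, show glPt (1 : GU N k) f = 0 from h1, map_zero]

theorem mkQ_eq {f : CoordGrp.GLn N k} (hf : f ∈ InvS π) :
    Ideal.Quotient.mkₐ k (idealS π) f = algebraMap k _ (glPt (1 : GU N k) f) := by
  rw [← sub_eq_zero, ← (Ideal.Quotient.mkₐ k (idealS π)).commutes, ← map_sub]
  refine Ideal.Quotient.eq_zero_iff_mem.2 (Ideal.subset_span ⟨sub_mem hf (Subalgebra.algebraMap_mem _ _), ?_⟩)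
  change glPt (1 : GU N k) _ = 0
  rw [map_sub, AlgHom.commutes, Algebra.algebraMap_self, RingHom.id_apply, sub_self]

theorem isHopfIdeal_idealS : (idealS π).IsHopfIdeal k := by
  let mk := Ideal.Quotient.mkₐ k (idealS π)
  let U := gmap mk (genU k N)
  have hU : glPt U = mk := (eq_glPt mk).symm
  refine isHopfIdeal_span ?_ ?_ ?_
  · rintro f ⟨-, h1⟩
    have : glPt (1 : GU N k) f = 0 := h1
    rwa [glPt_one, Algebra.ofId_self, AlgHom.id_comp, Bialgebra.counitAlgHom_apply] at this
  · rintro f ⟨hS, h1⟩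
    change Algebra.TensorProduct.map mk mk (Coalgebra.comul (R := k) f) = 0
    let iL : _ →ₐ[k] (_ ⧸ idealS π) ⊗[k] (_ ⧸ idealS π) := Algebra.TensorProduct.includeLeft (S := k)
    let iR : _ →ₐ[k] (_ ⧸ idealS π) ⊗[k] (_ ⧸ idealS π) := Algebra.TensorProduct.includeRight
    obtain ⟨n, b, F, hF, hd⟩ := exists_decomp π U hS
    have e0 : ∑ i, b i * algebraMap k _ (glPt (1 : GU N k) (F i)) = 0 := by
      have := hd _ (AlgHom.id k _) 1
      rw [gmap_id, mul_one, hU] at this
      rw [Finset.sum_congr rfl fun i _ => by rw [glPt_one_apply (F i)]] at this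
      refine this.symm.trans (Ideal.Quotient.eq_zero_iff_mem.2 (Ideal.subset_span ⟨hS, h1⟩))
    have e := hd _ iL (gmap iR U)
    rw [glPt_mul, AlgHom.comp_apply, Bialgebra.comulAlgHom_apply] at e
    refine Eq.trans (Eq.trans ?_ e) ?_
    · rw [glPt_gmap iL U, glPt_gmap iR U, hU]
      induction Coalgebra.comul (R := k) f using TensorProduct.induction_on with
      | zero => simp
      | tmul p q => simp [iL, iR, mk]
      | add p q hp hq => simp only [map_add, hp, hq]
    · simp only [glPt_gmap_apply, hU, mk, mkQ_eq π (hF _), AlgHom.commutes]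
      rw [← iL.toRingHom.map_zero, ← e0, map_sum]
      simp [iL]
  · rintro f ⟨hS, h1⟩
    rw [← Ideal.Quotient.eq_zero_iff_mem, ← HopfAlgebra.antipodeAlgHom_apply (R := k), ← glPt_genU_inv,
      ← Ideal.Quotient.mkₐ_eq_mk k, ← glPt_gmap_apply, map_inv]
    change glPt U⁻¹ f = 0
    obtain ⟨n, b, F, hF, hd⟩ := exists_decomp π U⁻¹ hS
    have e1 := hd _ (AlgHom.id k _) 1
    have e2 := hd _ (AlgHom.id k _) U
    rw [gmap_id, mul_one] at e1
    rw [gmap_id, inv_mul_cancel, glPt_one_apply] at e2
    rw [show glPt (1 : GU N k) f = 0 from h1, map_zero] at e2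
    rw [e1, e2]
    refine Finset.sum_congr rfl fun i _ => ?_
    rw [hU, mkQ_eq π (hF i), glPt_one_apply]

variable [IsAlgClosed k] [CharZero k] [Algebra.FiniteType k A]

/-- the invariants cut out the subgroup -/
theorem idealS_eq_ker (hG : HopfRep.IsLinearlyReductive k A) (hπ : Function.Surjective π) :
    idealS π = RingHom.ker (π : CoordGrp.GLn N k →ₐ[k] A) := by
  refine le_antisymm (idealS_le_ker π) fun f hf => ?_
  have := isHopfIdeal_idealS π
  have := finiteType_GLn (k := k) (N := N)
  have : Algebra.FiniteType k (CoordGrp.GLn N k ⧸ idealS π) :=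
    Algebra.FiniteType.of_surjective (Ideal.Quotient.mkₐ k (idealS π)) Ideal.Quotient.mk_surjective
  have : IsReduced (CoordGrp.GLn N k ⧸ idealS π) := Luna.isReduced_hopf (k := k)
  rw [← Ideal.Quotient.eq_zero_iff_mem]
  refine IsReduced.eq_zero _ (GitQuot.isNilpotent_of_forall_point (k := k) _ fun p => ?_)
  let g : GU N k := gmap (p.comp (Ideal.Quotient.mkₐ k (idealS π))) (genU k N)
  have hg : glPt g = p.comp (Ideal.Quotient.mkₐ k (idealS π)) := (eq_glPt _).symm
  suffices h : RingHom.ker (π : CoordGrp.GLn N k →ₐ[k] A) ≤ RingHom.ker (glPt g) by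
    have := h hf
    rwa [RingHom.mem_ker, hg] at this
  letI := rightComod π
  letI := isCoactAlg_right π
  -- agreement on the invariants
  have hagree : ∀ F ∈ HopfRep.fixedPts k A (CoordGrp.GLn N k), glPt g F = glPt (1 : GU N k) F := by
    intro F hF
    rw [hg, AlgHom.comp_apply, mkQ_eq π hF, AlgHom.commutes, Algebra.algebraMap_self, RingHom.id_apply]
  obtain ⟨z, hzg, hz1⟩ := GitQuot.exists_common_point hG (glPt g) (glPt (1 : GU N k)) hagree
  have horb : ∀ x : GU N k, GLin.orbitHom k A (glPt (k := k) x) =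
      glPt (gmap (Algebra.ofId k A) x * subU π) := by
    intro x
    refine AlgHom.ext fun F => ?_
    rw [glPt_mul, glPt_gmap, glPt_subU]
    change Algebra.TensorProduct.lid k A (Algebra.TensorProduct.map (glPt x) (AlgHom.id k A)
      ((π : CoordGrp.GLn N k →ₗc[k] A).toLinearMap.lTensor _ (Coalgebra.comul (R := k) F))) = _
    rw [AlgHom.comp_apply, Bialgebra.comulAlgHom_apply]
    induction Coalgebra.comul (R := k) F using TensorProduct.induction_on with
    | zero => simp
    | tmul p q => simp [Algebra.smul_def]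
    | add p q hp hq => simp only [map_add, hp, hq]
  rw [horb] at hzg
  rw [horb, map_one, one_mul, glPt_subU] at hz1
  let zU : GU N k := gmap z (genU k N)
  have hzU : glPt zU = z := (eq_glPt z).symm
  have hsub : ∀ y : GU N k, RingHom.ker (π : CoordGrp.GLn N k →ₐ[k] A) ≤ RingHom.ker (glPt (k := k) y) →
      ∃ a : A →ₐ[k] k, y = gmap a (subU π) := by
    intro y hy
    refine ⟨AlgHom.liftOfSurjective (π : CoordGrp.GLn N k →ₐ[k] A) hπ (glPt y) hy, ?_⟩
    rw [subU, gmap_gmap, AlgHom.liftOfSurjective_comp]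
    apply Units.ext; ext i j; simp
  obtain ⟨a, ha⟩ := hsub zU (by rwa [hzU])
  obtain ⟨c, hc⟩ := hsub (g⁻¹ * zU) (fun F hF => by
    have h := hzg (show glPt (gmap (Algebra.ofId k (CoordGrp.GLn N k)) g⁻¹ * genU k N) F ∈ _ by
      rw [RingHom.mem_ker, glPt_translate_apply, ← mul_assoc, ← map_mul, inv_mul_cancel, map_one, one_mul,
        glPt_subU]
      exact hF)
    rw [RingHom.mem_ker, ← hzU, glPt_translate_apply] at h
    rwa [RingHom.mem_ker, show gmap (Algebra.ofId k k) g⁻¹ = g⁻¹ from by apply Units.ext; ext i j; simp] at *)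
  have hg' : g = zU * (gmap c (subU π))⁻¹ := by rw [← hc]; group
  rw [hg', ha, ← gmap_subU_antipode, ← gmap_subU_conv, glPt_gmap, glPt_subU]
  intro F hF
  rw [RingHom.mem_ker, AlgHom.comp_apply, RingHom.mem_ker.1 hF, map_zero]

variable (k N) in
/-- the dual numbers with all tangent directions -/
abbrev R0 : Type u := TrivSqZeroExt k (Fin N × Fin N → k)

variable (k N) in
/-- the matrix of the tangent coordinates -/
def eMat : Matrix (Fin N) (Fin N) (R0 k N) := fun a b => TrivSqZeroExt.inr (Pi.single (a, b) 1)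

/-- a unit near the identity -/
def nearOne {C : Type*} [CommRing C] (ζ : Matrix (Fin N) (Fin N) C)
    (h : ∀ a b c d, ζ a b * ζ c d = 0) : GU N C where
  val := 1 + ζ
  inv := 1 - ζ
  val_inv := by
    have : ζ * ζ = 0 := by ext i j; simp [Matrix.mul_apply, h]
    noncomm_ring [this]
  inv_val := by
    have : ζ * ζ = 0 := by ext i j; simp [Matrix.mul_apply, h]
    noncomm_ring [this]

theorem eMat_sq (a b c d : Fin N) : eMat k N a b * eMat k N c d = 0 := TrivSqZeroExt.inr_mul_inr _ _ _

variable (k N) in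
/-- the universal tangent vector at the identity -/
def oneE : GU N (R0 k N) := nearOne (eMat k N) eMat_sq

/-- the hom out of the dual numbers given by a matrix -/
def fromR0 {C : Type*} [CommRing C] [Algebra k C] (ζ : Matrix (Fin N) (Fin N) C)
    (h : ∀ a b c d, ζ a b * ζ c d = 0) : R0 k N →ₐ[k] C :=
  TrivSqZeroExt.liftEquivOfComm ⟨Fintype.linearCombination k fun p : Fin N × Fin N => ζ p.1 p.2, fun x y => by
    simp [Fintype.linearCombination_apply, Finset.sum_mul, Finset.mul_sum, h]⟩

theorem fromR0_eMat {C : Type*} [CommRing C] [Algebra k C] (ζ : Matrix (Fin N) (Fin N) C)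
    (h : ∀ a b c d, ζ a b * ζ c d = 0) (a b : Fin N) : fromR0 (k := k) ζ h (eMat k N a b) = ζ a b := by
  simp [fromR0, eMat, TrivSqZeroExt.liftEquivOfComm, Fintype.linearCombination_apply, Pi.single_apply, ite_smul]

theorem gmap_fromR0 {C : Type*} [CommRing C] [Algebra k C] (ζ : Matrix (Fin N) (Fin N) C)
    (h : ∀ a b c d, ζ a b * ζ c d = 0) : gmap (fromR0 (k := k) ζ h) (oneE k N) = nearOne ζ h := by
  apply Units.ext
  ext a b
  simp only [gmap_val, Matrix.map_apply, oneE, nearOne, Matrix.add_apply, map_add, fromR0_eMat, Matrix.one_apply]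
  split_ifs <;> simp

/-- an invariant function vanishing to second order at the identity -/
theorem mem_mul_of_tangent (hG : HopfRep.IsLinearlyReductive k A) (hπ : Function.Surjective π)
    {f : CoordGrp.GLn N k} (hf : f ∈ InvS π) (hd : glPt (oneE k N) f = 0) :
    f ∈ mS π * mS π := by
  have : Algebra.Smooth k A := smooth_of_hopfAlgebra_charZero k A
  let J := idealS π
  have hJ : J = RingHom.ker (π : CoordGrp.GLn N k →ₐ[k] A) := idealS_eq_ker π hG hπ
  let Q := CoordGrp.GLn N k ⧸ J * J
  let pQ : Q →ₐ[k] A := Ideal.Quotient.liftₐ _ (π : CoordGrp.GLn N k →ₐ[k] A) fun x hx => by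
    have := Ideal.mul_le_left hx
    rwa [hJ] at this
  have hker : ∀ x y : Q, pQ x = 0 → pQ y = 0 → x * y = 0 := by
    intro x y hx hy
    obtain ⟨x, rfl⟩ := Ideal.Quotient.mk_surjective x
    obtain ⟨y, rfl⟩ := Ideal.Quotient.mk_surjective y
    rw [← map_mul, Ideal.Quotient.eq_zero_iff_mem]
    refine Ideal.mul_mem_mul ?_ ?_ <;> rw [hJ, RingHom.mem_ker]
    exacts [hx, hy]
  have hsurj : Function.Surjective pQ := fun a => by
    obtain ⟨x, rfl⟩ := hπ a
    exact ⟨Ideal.Quotient.mk _ x, rfl⟩
  have hnil : IsNilpotent (RingHom.ker (pQ : Q →+* A)) := by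
    refine ⟨2, ?_⟩
    rw [pow_two, Submodule.zero_eq_bot, eq_bot_iff, Ideal.mul_le]
    exact fun x hx y hy => hker x y hx hy
  let s : A →ₐ[k] Q := Algebra.FormallySmooth.liftOfSurjective (AlgHom.id k A) pQ hsurj hnil
  have hs : pQ.comp s = AlgHom.id k A := Algebra.FormallySmooth.comp_liftOfSurjective _ _ _ _
  let mk : CoordGrp.GLn N k →ₐ[k] Q := Ideal.Quotient.mkₐ k _
  let U := gmap mk (genU k N)
  let M := gmap s (subU π)
  let ζ : Matrix (Fin N) (Fin N) Q := (U * M⁻¹).val - 1
  have hζ : ∀ a b c d, ζ a b * ζ c d = 0 := by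
    have h1 : gmap pQ (U * M⁻¹) = 1 := by
      rw [map_mul, map_inv, gmap_gmap, gmap_gmap, hs, gmap_id, mul_inv_eq_one]
      rfl
    have h2 : ∀ a b, pQ (ζ a b) = 0 := fun a b => by
      have := congrArg (fun u : GU N A => u.val a b) h1
      simp only [gmap_val, Matrix.map_apply, Units.val_one] at this
      simp only [ζ, Matrix.sub_apply, map_sub, this, Matrix.one_apply]
      split_ifs <;> simp
    exact fun a b c d => hker _ _ (h2 a b) (h2 c d)
  have hfac : nearOne ζ hζ * M = U := by
    have : nearOne ζ hζ = U * M⁻¹ := by apply Units.ext; simp [nearOne, ζ]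
    rw [this, inv_mul_cancel_right]
  have hmk : mk f = 0 := by
    rw [show mk = glPt U from eq_glPt mk, ← hfac, invariant_mul π hf, ← gmap_fromR0 (k := k), glPt_gmap_apply,
      hd, map_zero]
  have hJJ : f ∈ J * J := Ideal.Quotient.eq_zero_iff_mem.1 hmk
  -- averaging
  letI := rightComod π
  letI := isCoactAlg_right π
  obtain ⟨E, hE⟩ := GitQuot.exists_reynolds (V := CoordGrp.GLn N k) hG
  have key : ∀ x ∈ J * J, E x ∈ mS π * mS π := by
    change ∀ x ∈ Ideal.span _ * Ideal.span _, _
    rw [Ideal.span_mul_span']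
    intro x hx
    suffices ∀ p, E (p * x) ∈ mS π * mS π by simpa using this 1
    induction hx using Submodule.span_induction with
    | mem y hy =>
      intro p
      obtain ⟨a, ha, b, hb, rfl⟩ := Set.mem_mul.1 hy
      rw [← mul_assoc, hE.map_mul GLin.IsCoactAlg.coact_mul hG _ hb.1,
        hE.map_mul GLin.IsCoactAlg.coact_mul hG _ ha.1]
      refine Submodule.mul_mem_mul ⟨?_, ?_⟩ hb
      · exact (InvS π).mul_mem (hE.apply_mem p) ha.1
      · change glPt (1 : GU N k) (E p * a) = 0
        rw [map_mul, show glPt (1 : GU N k) a = 0 from ha.2, mul_zero]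
    | zero => intro p; rw [mul_zero, map_zero]; exact zero_mem _
    | add y z _ _ hy hz => intro p; rw [mul_add, map_add]; exact add_mem (hy p) (hz p)
    | smul c y _ hy => intro p; rw [smul_eq_mul, ← mul_assoc]; exact hy _
  rw [← (hE.fixed f).2 hf]
  exact key f hJJ

end Groth.ComodLib.HM
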