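import Groth.Agent.Hopf.HM.Laurent
import Groth.Agent.Hopf.HM.Tangent
import Groth.Agent.GitQuot.Linear

/-!
# Straightening a diagonal curve in the homogeneous space
-/

set_option autoImplicit false
set_option linter.unusedSectionVars false
set_option linter.style.haveILetI false

universe u

open TensorProduct Matrix LaurentPolynomial

noncomputable section

namespace Groth.ComodLib.HM

variable {k : Type u} [Field k] {N : ℕ}

/-- the diagonal curve through a matrix, on functions -/
def curve (s : Fin N → ℤ) (q : GU N k) : CoordGrp.GLn N k →ₐ[k] k[T;T⁻¹] :=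
  glPt (dUnit (tU k) s * cst q)

variable {A : Type u} [CommRing A] [HopfAlgebra k A] (π : CoordGrp.GLn N k →ₐc[k] A)

/-- the curve has a limit in the homogeneous space -/
def IsCurve (s : Fin N → ℤ) (q : GU N k) : Prop :=
  ∀ f ∈ InvS π, ∀ n : ℤ, n < 0 → (curve s q f).coeff n = 0

/-- the curve is constant below degree `j` -/
def IsFlat (s : Fin N → ℤ) (q : GU N k) (j : ℕ) : Prop :=
  ∀ f ∈ InvS π, ∀ n : ℕ, 1 ≤ n → n < j → (curve s q f).coeff n = 0

/-- triangularity for the weights -/
def IsTri (s : Fin N → ℤ) (X : Matrix (Fin N) (Fin N) k) : Prop := ∀ a b, X a b ≠ 0 → s b ≤ s a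

theorem IsCurve.exists_lift {π : CoordGrp.GLn N k →ₐc[k] A} {s : Fin N → ℤ} {q : GU N k}
    (h : IsCurve π s q) :
    ∃ Y : InvS π →ₐ[k] Polynomial k, ∀ f : InvS π, Polynomial.toLaurent (Y f) = curve s q f := by
  choose p hp using fun f : InvS π => (GitQuot.exists_polynomial_iff (curve s q (f : CoordGrp.GLn N k))).2 (h f f.2)
  refine ⟨{ toFun := p, map_one' := ?_, map_mul' := ?_, map_zero' := ?_, map_add' := ?_, commutes' := ?_ }, hp⟩
  · exact Polynomial.toLaurent_injective (by rw [hp]; simp)
  · intro a b; exact Polynomial.toLaurent_injective (by rw [map_mul, hp, hp, hp]; simp)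
  · exact Polynomial.toLaurent_injective (by rw [hp]; simp)
  · intro a b; exact Polynomial.toLaurent_injective (by rw [map_add, hp, hp, hp]; simp)
  · intro c
    refine Polynomial.toLaurent_injective ((hp _).trans ?_)
    rw [Polynomial.algebraMap_eq, Polynomial.toLaurent_C]
    exact (curve s q).commutes c

theorem curve_translate (g : GU N k) (s : Fin N → ℤ) (q : GU N k) (f : CoordGrp.GLn N k) :
    curve s q (glPt (gmap (Algebra.ofId k (CoordGrp.GLn N k)) g * genU k N) f) =
      glPt (cst g * (dUnit (tU k) s * cst q)) f := glPt_translate_apply _ _ _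

/-- the hom to the dual numbers in one direction -/
theorem snd_fromR0 (η : Matrix (Fin N) (Fin N) k) (h) (x : R0 k N) :
    (fromR0 (k := k) (C := TrivSqZeroExt k k) (fun a b => TrivSqZeroExt.inr (η a b)) h x).snd =
      ∑ a, ∑ b, η a b * x.snd (a, b) := by
  induction x using TrivSqZeroExt.ind with
  | inl_add_inr r m =>
    simp [fromR0, TrivSqZeroExt.liftEquivOfComm, Fintype.linearCombination_apply, Fintype.sum_prod_type,
      TrivSqZeroExt.snd_sum, TrivSqZeroExt.algebraMap_eq_inl, mul_comm]

theorem snd_fromR0_scale (μ : Fin N → Fin N → k) (h) (x : R0 k N) (a b : Fin N) :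
    (fromR0 (k := k) (C := R0 k N) (fun a b => μ a b • eMat k N a b) h x).snd (a, b) = μ a b * x.snd (a, b) := by
  induction x using TrivSqZeroExt.ind with
  | inl_add_inr r m =>
    simp [fromR0, eMat, TrivSqZeroExt.liftEquivOfComm, Fintype.linearCombination_apply, TrivSqZeroExt.snd_sum,
      Finset.sum_apply, Pi.single_apply, TrivSqZeroExt.algebraMap_eq_inl, mul_comm]

theorem eq_zero_of_fst_zero {x y : R0 k N} (hx : x.fst = 0) (hy : y.fst = 0) : x * y = 0 := by
  ext <;> simp [hx, hy]

theorem pow_weight {s : Fin N → ℤ} {η : Matrix (Fin N) (Fin N) k} {j : ℤ}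
    (hη : ∀ a b, η a b ≠ 0 → s a - s b = j) (m : ℕ) :
    ∀ a b, (η ^ m) a b ≠ 0 → s a - s b = m * j := by
  induction m with
  | zero =>
    intro a b h
    rw [pow_zero, Matrix.one_apply] at h
    split_ifs at h with e
    · simp [e]
    · exact absurd rfl h
  | succ m ih =>
    intro a b h
    rw [pow_succ, Matrix.mul_apply] at h
    obtain ⟨c, -, hc⟩ := Finset.exists_ne_zero_of_sum_ne_zero h
    have h1 := ih a c (left_ne_zero_of_mul hc)
    have h2 := hη c b (right_ne_zero_of_mul hc)
    push_cast
    linarith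

/-- the unit `1 + X` of a nilpotent matrix -/
def nilUnit {C : Type*} [CommRing C] (X : Matrix (Fin N) (Fin N) C) (M : ℕ) (h : X ^ M = 0) : GU N C where
  val := 1 + X
  inv := ∑ m ∈ Finset.range M, (-X) ^ m
  val_inv := by
    have := mul_neg_geom_sum (-X) M
    rwa [sub_neg_eq_add, neg_pow X M, h, mul_zero, sub_zero] at this
  inv_val := by
    have := geom_sum_mul_neg (-X) M
    rwa [sub_neg_eq_add, neg_pow X M, h, mul_zero, sub_zero] at this

theorem coeff_expand_mul (b p : Polynomial k) {j : ℕ} (hj : 1 ≤ j) {n : ℕ} (hn : n ≤ j) :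
    (Polynomial.expand k j b * p).coeff n = b.coeff 0 * p.coeff n + if n = j then b.coeff 1 * p.coeff 0 else 0 := by
  conv_lhs => rw [← Polynomial.X_mul_divX_add b, ← Polynomial.X_mul_divX_add b.divX]
  simp only [map_add, map_mul, Polynomial.expand_X, Polynomial.expand_C, Polynomial.coeff_divX, zero_add, add_mul,
    mul_add, Polynomial.coeff_add, mul_assoc, Polynomial.coeff_C_mul, ← pow_add, ← mul_assoc]
  rw [mul_assoc _ _ p, mul_assoc _ _ p, Polynomial.coeff_X_pow_mul', Polynomial.coeff_X_pow_mul',
    if_neg (show ¬ j + j ≤ n by omega)]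
  rcases hn.lt_or_eq with h | h
  · rw [if_neg (show ¬ j ≤ n by omega), if_neg h.ne]; ring
  · rw [if_pos (show j ≤ n by omega), if_pos h, h, Nat.sub_self, Polynomial.coeff_C_mul]; ring

variable [IsAlgClosed k] [CharZero k] [Algebra.FiniteType k A]

/-- a tangent vector of the homogeneous space comes from one of `GL_N` -/
theorem exists_tangent (hG : HopfRep.IsLinearlyReductive k A) (hπ : Function.Surjective π) (s : Fin N → ℤ)
    (q : GU N k) {j : ℕ} (hj : 1 ≤ j) (hcv : IsCurve π s q) (hfl : IsFlat π s q j) :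
    ∃ (h : GU N k) (ξ : Matrix (Fin N) (Fin N) k),
      (∀ f ∈ InvS π, glPt h f = (curve s q f).coeff 0) ∧
      ∀ f ∈ InvS π, (curve s q f).coeff j = ∑ a, ∑ b, ξ a b * (glPt (oneE k N * cst h) f).snd (a, b) := by
  classical
  obtain ⟨Y, hY⟩ := hcv.exists_lift
  have hco : ∀ (f : InvS π) (n : ℕ), (Y f).coeff n = (curve s q (f : CoordGrp.GLn N k)).coeff n := fun f n => by
    rw [← hY, GitQuot.coeff_toLaurent_nat]
  let z : InvS π →ₐ[k] k := (Polynomial.aeval (0 : k)).comp Y
  have hz : ∀ f : InvS π, z f = (Y f).coeff 0 := fun f => (Polynomial.coeff_zero_eq_aeval_zero _).symm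
  -- a lift of the limit point
  letI := rightComod π
  letI := isCoactAlg_right π
  have := finiteType_GLn (k := k) (N := N)
  obtain ⟨x, -, hx⟩ := GitQuot.exists_point_over hG (I := (⊥ : Ideal (CoordGrp.GLn N k)))
    (fun w hw => by
      rw [Submodule.restrictScalars_mem, Submodule.mem_bot] at hw
      rw [hw, map_zero]
      exact zero_mem _)
    (InvS π) (fun f => Iff.rfl) z
    (fun f hf => by rw [show f = 0 from Subtype.ext ((Submodule.mem_bot _).1 hf), map_zero])
  let h : GU N k := gmap x (genU k N)
  have hh : glPt h = x := (eq_glPt x).symm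
  have hh' : ∀ f : InvS π, glPt h (f : CoordGrp.GLn N k) = (Y f).coeff 0 := fun f => by rw [hh, hx, hz]
  let δ : InvS π →ₗ[k] k := (Polynomial.lcoeff k j).comp Y.toLinearMap
  let L : Fin N × Fin N → InvS π →ₗ[k] k := fun p =>
    (LinearMap.proj p).comp
      ((TrivSqZeroExt.sndHom k (Fin N × Fin N → k)).comp
        ((glPt (oneE k N * cst h)).toLinearMap.comp (InvS π).val.toLinearMap))
  have hker : ⨅ p, LinearMap.ker (L p) ≤ LinearMap.ker δ := by
    intro f hf
    simp only [Submodule.mem_iInf, LinearMap.mem_ker] at hf ⊢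
    let c := (Y f).coeff 0
    let f0 : InvS π := f - algebraMap k _ c
    have hδ0 : δ (algebraMap k (InvS π) c) = 0 := by
      change (Y (algebraMap k _ c)).coeff j = 0
      rw [AlgHom.commutes, Polynomial.algebraMap_eq, Polynomial.coeff_C, if_neg (by omega)]
    suffices h0 : δ f0 = 0 by
      rw [map_sub, hδ0, sub_zero] at h0
      exact h0
    have hd0 : glPt (oneE k N * cst h) (f0 : CoordGrp.GLn N k) = 0 := by
      have hfst : ∀ F : CoordGrp.GLn N k, (glPt (oneE k N * cst h) F).fst = glPt h F := by
        intro F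
        change TrivSqZeroExt.fstHom k k (Fin N × Fin N → k) (glPt (oneE k N * cst h) F) = _
        rw [← glPt_gmap_apply, map_mul, gmap_cst, cst_self]
        congr
        rw [mul_eq_right]
        apply Units.ext
        ext a b
        simp [oneE, nearOne, eMat, Matrix.one_apply]
        split_ifs <;> simp
      refine TrivSqZeroExt.ext ?_ ?_
      · rw [hfst, hh']
        simp [f0, c, Polynomial.algebraMap_eq]
      · rw [TrivSqZeroExt.snd_zero]
        funext p
        have e1 : glPt (oneE k N * cst h) ((algebraMap k (InvS π) c : InvS π) : CoordGrp.GLn N k) =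
            algebraMap k (R0 k N) c := (glPt (oneE k N * cst h)).commutes c
        have e2 := hf p
        simp only [L, LinearMap.comp_apply, AlgHom.toLinearMap_apply, LinearMap.proj_apply] at e2
        simp only [f0, AddSubgroupClass.coe_sub, map_sub, e1, TrivSqZeroExt.snd_sub, Pi.sub_apply]
        have e3 : (glPt (oneE k N * cst h) (f : CoordGrp.GLn N k)).snd p = (0 : k) := e2
        rw [e3]
        simp [TrivSqZeroExt.algebraMap_eq_inl]
    -- move to the identity
    let ζ : Matrix (Fin N) (Fin N) (R0 k N) := (cst h : GU N (R0 k N)).val * eMat k N * ((cst h)⁻¹ : GU N (R0 k N)).val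
    have hζ : ∀ a b c d, ζ a b * ζ c d = 0 := by
      have h1 : ∀ a b, (ζ a b).fst = 0 := fun a b => by
        change TrivSqZeroExt.fstHom k k (Fin N × Fin N → k) (ζ a b) = 0
        simp [ζ, Matrix.mul_apply, eMat, TrivSqZeroExt.fst_sum]
      exact fun a b c d => eq_zero_of_fst_zero (h1 a b) (h1 c d)
    let T := fromR0 (k := k) ζ hζ
    have hconj : cst h * oneE k N = gmap T (oneE k N * cst h) := by
      rw [map_mul, gmap_cst, gmap_fromR0]
      apply Units.ext
      simp only [Units.val_mul, oneE, nearOne, ζ, Matrix.mul_add, Matrix.add_mul, Matrix.mul_one, Matrix.one_mul,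
        Matrix.mul_assoc, Units.inv_mul]
    let f' := glPt (gmap (Algebra.ofId k (CoordGrp.GLn N k)) h * genU k N) (f0 : CoordGrp.GLn N k)
    have hf'mem : f' ∈ mS π * mS π := by
      refine mem_mul_of_tangent π hG hπ (glPt_translate_mem π h f0.2) ?_
      change glPt (oneE k N) (glPt _ (f0 : CoordGrp.GLn N k)) = 0
      rw [glPt_translate_apply]
      change glPt (cst h * oneE k N) (f0 : CoordGrp.GLn N k) = 0
      rw [hconj, glPt_gmap_apply, hd0, map_zero]
    let θ : CoordGrp.GLn N k →ₐ[k] CoordGrp.GLn N k :=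
      glPt (gmap (Algebra.ofId k (CoordGrp.GLn N k)) h⁻¹ * genU k N)
    have hθ : θ f' = (f0 : CoordGrp.GLn N k) := by
      simp only [θ, f']
      rw [glPt_translate_apply, ← mul_assoc, ← map_mul, mul_inv_cancel, map_one, one_mul, glPt_genU]
      rfl
    have hres : ∀ y ∈ mS π * mS π, θ y ∈ InvS π ∧ (curve s q (θ y)).coeff j = 0 := by
      intro y hy
      refine Submodule.mul_induction_on hy (fun a ha b hb => ?_) fun a b ha hb => ?_
      · have m1 : θ a ∈ InvS π := glPt_translate_mem π h⁻¹ ha.1
        have m2 : θ b ∈ InvS π := glPt_translate_mem π h⁻¹ hb.1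
        refine ⟨by rw [map_mul]; exact mul_mem m1 m2, ?_⟩
        have z0 : ∀ d ∈ mS π, ∀ hd : θ d ∈ InvS π, (Y ⟨θ d, hd⟩).coeff 0 = 0 := by
          intro d hd hm
          rw [← hh']
          change glPt h (glPt _ d) = 0
          rw [glPt_translate_apply]
          change glPt (cst h⁻¹ * h) d = 0
          rw [cst_self, inv_mul_cancel]
          exact hd.2
        have em : θ a * θ b = ((⟨θ a, m1⟩ * ⟨θ b, m2⟩ : InvS π) : CoordGrp.GLn N k) := rfl
        rw [map_mul θ, em, ← hco, map_mul, Polynomial.coeff_mul]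
        refine Finset.sum_eq_zero fun il hil => ?_
        rw [Finset.HasAntidiagonal.mem_antidiagonal] at hil
        rcases Nat.eq_zero_or_pos il.1 with h1 | h1
        · rw [h1, z0 a ha m1, zero_mul]
        rcases Nat.eq_zero_or_pos il.2 with h2 | h2
        · rw [h2, z0 b hb m2, mul_zero]
        rw [hco, hfl _ m1 il.1 h1 (by omega), zero_mul]
      · refine ⟨by rw [map_add]; exact add_mem ha.1 hb.1, ?_⟩
        rw [map_add, map_add, AddMonoidAlgebra.coeff_add, Finsupp.add_apply, ha.2, hb.2, add_zero]
    change (Y f0).coeff j = 0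
    rw [hco, ← hθ]
    exact (hres _ hf'mem).2
  obtain ⟨c, hc⟩ := Submodule.mem_span_range_iff_exists_fun k |>.1 (mem_span_of_iInf_ker_le_ker hker)
  refine ⟨h, fun a b => c (a, b), fun f hf => ?_, fun f hf => ?_⟩
  · rw [← Nat.cast_zero, ← hco ⟨f, hf⟩]
    exact hh' ⟨f, hf⟩
  · rw [← hco ⟨f, hf⟩]
    have e := LinearMap.congr_fun hc ⟨f, hf⟩
    change _ = δ ⟨f, hf⟩ at e
    change δ ⟨f, hf⟩ = _
    rw [← e, LinearMap.sum_apply, Fintype.sum_prod_type]
    rfl

/-- one step of straightening -/
theorem exists_step (hG : HopfRep.IsLinearlyReductive k A) (hπ : Function.Surjective π) (s : Fin N → ℤ)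
    (q : GU N k) {j : ℕ} (hj : 1 ≤ j) (hcv : IsCurve π s q) (hfl : IsFlat π s q j) :
    ∃ u : GU N k, IsCurve π s (u * q) ∧ IsFlat π s (u * q) (j + 1) ∧ IsTri s (u⁻¹).val := by
  classical
  obtain ⟨h, ξ, hh, hξ⟩ := exists_tangent π hG hπ s q hj hcv hfl
  obtain ⟨Y, hY⟩ := hcv.exists_lift
  let η : Matrix (Fin N) (Fin N) k := fun a b => if s a - s b = j then -ξ a b else 0
  have hη : ∀ a b, η a b ≠ 0 → s a - s b = (j : ℤ) := fun a b hab => by
    by_contra hne; exact hab (if_neg hne)
  let M : ℕ := (∑ a, |s a|).toNat * 2 + 1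
  have hM : η ^ M = 0 := by
    ext a b
    by_contra hab
    have := pow_weight hη M a b hab
    have h1 : ∀ c, |s c| ≤ ∑ a, |s a| := fun c =>
      Finset.single_le_sum (fun i _ => abs_nonneg (s i)) (Finset.mem_univ c)
    have h2 : (M : ℤ) ≤ M * j := le_mul_of_one_le_right (by positivity) (by exact_mod_cast hj)
    have h3 : (M : ℤ) = 2 * (∑ a, |s a|) + 1 := by
      simp only [M]; push_cast
      rw [Int.toNat_of_nonneg (Finset.sum_nonneg fun i _ => abs_nonneg (s i))]; ring
    have := abs_le.1 (h1 a); have := abs_le.1 (h1 b)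
    omega
  let u : GU N k := nilUnit η M hM
  -- the one-parameter deformation
  let ηX : Matrix (Fin N) (Fin N) (Polynomial k) := (Polynomial.X : Polynomial k) • η.map Polynomial.C
  have hMX : ηX ^ M = 0 := by
    rw [show ηX = (Polynomial.X : Polynomial k) • (Polynomial.C : k →+* Polynomial k).mapMatrix η from rfl, smul_pow,
      ← map_pow, hM, map_zero, smul_zero]
  let w : GU N (Polynomial k) := nilUnit ηX M hMX
  let ρ : Polynomial k →ₐ[k] k[T;T⁻¹] := (Polynomial.toLaurentAlg (R := k)).comp (Polynomial.expand k j)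
  have hρ : ∀ p, ρ p = Polynomial.toLaurent (Polynomial.expand k j p) := fun p => rfl
  have hwX : ∀ {R : Type u} [CommRing R] [Algebra k R] (φ : Polynomial k →ₐ[k] R) (a b : Fin N),
      (gmap φ w).val a b = (if a = b then 1 else 0) + φ Polynomial.X * algebraMap k R (η a b) := by
    intro R _ _ φ a b
    simp only [gmap_val, Matrix.map_apply, w, nilUnit, ηX, Matrix.add_apply, Matrix.one_apply, Matrix.smul_apply,
      smul_eq_mul, map_add, map_mul]
    rw [← Polynomial.algebraMap_eq, AlgHom.commutes]
    split_ifs <;> simp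
  have hDu : dUnit (tU k) s * cst (u * q) = gmap ρ w * (dUnit (tU k) s * cst q) := by
    rw [cst_mul, ← mul_assoc, ← mul_assoc]
    congr 1
    apply Units.ext
    rw [Units.val_mul, Units.val_mul, dUnit_conj]
    congr 1
    ext a b
    rw [Matrix.of_apply, tU_zpow, hwX, hρ, Polynomial.expand_X, map_pow, Polynomial.toLaurent_X, T_pow, mul_one]
    simp only [cst, gmap_val, Matrix.map_apply, u, nilUnit, Matrix.add_apply, Matrix.one_apply, map_add, mul_add,
      Algebra.ofId_apply]
    rcases eq_or_ne (η a b) 0 with e | e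
    · rcases eq_or_ne a b with e' | e'
      · subst e'; simp [e]
      · simp [e, e']
    · have hab : a ≠ b := fun e' => by
        have := hη a b e
        rw [e', sub_self] at this
        omega
      rw [hη a b e, if_neg hab, if_neg hab]
      simp
  have hcurve : ∀ f ∈ InvS π, ∃ P : Polynomial k, Polynomial.toLaurent P = curve s (u * q) f ∧
      ∀ n : ℕ, 1 ≤ n → n < j + 1 → P.coeff n = 0 := by
    intro f hf
    obtain ⟨m, b, F, hF, hd⟩ := exists_decomp π w hf
    refine ⟨∑ i, Polynomial.expand k j (b i) * Y ⟨F i, hF i⟩, ?_, fun n hn1 hn2 => ?_⟩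
    · rw [curve, hDu, hd, map_sum]
      exact Finset.sum_congr rfl fun i _ => by rw [map_mul, hY]; rfl
    -- degree zero part of the deformation
    have e0 : ∀ n : ℕ, ∑ i, (b i).coeff 0 * (Y ⟨F i, hF i⟩).coeff n = (curve s q f).coeff n := by
      intro n
      have e := hd _ ((Algebra.ofId k k[T;T⁻¹]).comp (Polynomial.aeval (0 : k))) (dUnit (tU k) s * cst q)
      have hone : gmap ((Algebra.ofId k k[T;T⁻¹]).comp (Polynomial.aeval (0 : k))) w = 1 := by
        apply Units.ext; ext a b
        rw [hwX, Units.val_one, Matrix.one_apply, AlgHom.comp_apply, Polynomial.aeval_X, map_zero, zero_mul, add_zero]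
      rw [hone, one_mul] at e
      rw [show curve s q f = _ from e, AddMonoidAlgebra.coeff_sum, Finsupp.finsetSum_apply]
      refine Finset.sum_congr rfl fun i _ => ?_
      rw [← GitQuot.coeff_toLaurent_nat (Y ⟨F i, hF i⟩), hY, AlgHom.comp_apply, ← Polynomial.coeff_zero_eq_aeval_zero,
        Algebra.ofId_apply, ← Algebra.smul_def, AddMonoidAlgebra.coeff_smul, Finsupp.smul_apply, smul_eq_mul]
      rfl
    have e1 : ∑ i, (b i).coeff 1 * (Y ⟨F i, hF i⟩).coeff 0 = -(curve s q f).coeff j := by
      let ρ2 : Polynomial k →ₐ[k] TrivSqZeroExt k k := Polynomial.aeval (TrivSqZeroExt.inr 1)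
      have hsq : ∀ a b c d, (TrivSqZeroExt.inr (η a b) : TrivSqZeroExt k k) * TrivSqZeroExt.inr (η c d) = 0 :=
        fun a b c d => TrivSqZeroExt.inr_mul_inr _ _ _
      let T2 := fromR0 (k := k) (C := TrivSqZeroExt k k) (fun a b => TrivSqZeroExt.inr (η a b)) hsq
      have hw2 : gmap ρ2 w = gmap T2 (oneE k N) := by
        rw [gmap_fromR0]
        apply Units.ext; refine Matrix.ext fun a b => ?_
        rw [hwX]
        simp [ρ2, nearOne, Matrix.one_apply, TrivSqZeroExt.algebraMap_eq_inl]
        ext <;> simp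
      have e := congrArg TrivSqZeroExt.snd (hd _ ρ2 (cst h))
      rw [hw2, ← gmap_cst T2 h, ← map_mul, glPt_gmap_apply, snd_fromR0, TrivSqZeroExt.snd_sum] at e
      have hb : ∀ p : Polynomial k, (ρ2 p).snd = p.coeff 1 := by
        intro p
        conv_lhs => rw [← Polynomial.X_mul_divX_add p, ← Polynomial.X_mul_divX_add p.divX]
        simp [ρ2, TrivSqZeroExt.algebraMap_eq_inl, Polynomial.coeff_divX]
      rw [Finset.sum_congr rfl (fun i _ => show (ρ2 (b i) * glPt (gmap T2 (cst h)) (F i)).snd =
        (b i).coeff 1 * (Y ⟨F i, hF i⟩).coeff 0 by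
          rw [gmap_cst, glPt_cst, TrivSqZeroExt.algebraMap_eq_inl, hh _ (hF i), ← Nat.cast_zero,
            ← GitQuot.coeff_toLaurent_nat (Y ⟨F i, hF i⟩) 0, hY]
          simp [hb, mul_comm])] at e
      rw [← e]
      -- the weight decomposition
      let d : Fin N → Fin N → k := fun a b => (glPt (oneE k N * cst h) f).snd (a, b)
      let Lp : k[T;T⁻¹] := ∑ a, ∑ b, LaurentPolynomial.C (ξ a b * d a b) * T (s a - s b) -
        LaurentPolynomial.C ((curve s q f).coeff j) * T j
      have hL : Lp = 0 := by
        refine eq_zero_of_forall_eval _ fun c => ?_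
        let g : GU N k := dUnit c s
        let fc := glPt (gmap (Algebra.ofId k (CoordGrp.GLn N k)) g * genU k N) f
        have hfc : fc ∈ InvS π := glPt_translate_mem π g hf
        have hcoef : ∀ F : CoordGrp.GLn N k, ∀ n : ℤ,
            (curve s q (glPt (gmap (Algebra.ofId k (CoordGrp.GLn N k)) g * genU k N) F)).coeff n =
              ((c ^ n : kˣ) : k) * (curve s q F).coeff n := by
          intro F n
          rw [curve_translate, ← mul_assoc, cst_dUnit, ← dUnit_mul]
          have : dUnit (Units.map ((Algebra.ofId k k[T;T⁻¹]) : k →* k[T;T⁻¹]) c * tU k) s * cst q =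
              gmap (scaleT (k := k) c) (dUnit (tU k) s * cst q) := by
            rw [map_mul, gmap_dUnit, gmap_cst, scaleT_tU]
            rfl
          rw [this, glPt_gmap_apply, coeff_scaleT]
          rfl
        -- the limit point is fixed
        have hfix : ∀ F ∈ InvS π, glPt (cst (g * h) : GU N (R0 k N)) F = glPt (cst h : GU N (R0 k N)) F := by
          intro F hFS
          rw [glPt_cst, glPt_cst]
          congr 1
          have := hh _ (glPt_translate_mem π g hFS)
          rw [glPt_translate_apply, hcoef, zpow_zero, Units.val_one, one_mul, ← hh F hFS] at this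
          rwa [show gmap (Algebra.ofId k k) g = cst g from rfl, cst_self] at this
        let μ : Fin N → Fin N → k := fun a b => ((c ^ (s a - s b) : kˣ) : k)
        have hμ : ∀ a b a' b', μ a b • eMat k N a b * μ a' b' • eMat k N a' b' = 0 := fun a b a' b' => by
          rw [smul_mul_smul_comm, eMat_sq, smul_zero]
        let T3 := fromR0 (k := k) (fun a b => μ a b • eMat k N a b) hμ
        have hconj : oneE k N * cst h = oneE k N * cst h := rfl
        have key : glPt (oneE k N * cst h) fc = T3 (glPt (oneE k N * cst h) f) := by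
          change glPt _ (glPt _ f) = _
          rw [glPt_translate_apply, ← glPt_gmap_apply, map_mul, gmap_cst, gmap_fromR0]
          have hc : gmap (Algebra.ofId k (R0 k N)) g * (oneE k N * cst h) =
              nearOne (fun a b => μ a b • eMat k N a b) hμ * cst (g * h) := by
            rw [cst_mul, ← mul_assoc, ← mul_assoc]
            congr 1
            change cst g * oneE k N = _
            apply Units.ext
            simp only [Units.val_mul, oneE, nearOne, g, cst_dUnit, Matrix.mul_add, Matrix.mul_one,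
              Matrix.add_mul, Matrix.one_mul, dUnit_conj]
            congr 1
            congr 1
            ext a b : 1
            rw [Matrix.of_apply, Algebra.smul_def, ← map_zpow]
            rfl
          rw [hc]
          exact congr_left π _ _ _ hfix hf
        have e2 := hξ fc hfc
        rw [hcoef, key] at e2
        simp only [T3, snd_fromR0_scale] at e2
        simp only [Lp, map_sub, map_sum, map_mul, evU_C, evU_T, AlgHom.id_apply, d]
        rw [sub_eq_zero, mul_comm ((curve s q f).coeff j), e2]
        exact Finset.sum_congr rfl fun a _ => Finset.sum_congr rfl fun b _ => by simp only [μ]; ring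
      have hc := congrArg (fun p : k[T;T⁻¹] => p.coeff (j : ℤ)) hL
      simp only [Lp, AddMonoidAlgebra.coeff_sub, AddMonoidAlgebra.coeff_sum, Finsupp.sub_apply, Finsupp.finsetSum_apply,
        coeff_C_mul_T, AddMonoidAlgebra.coeff_zero, Finsupp.zero_apply, if_true, sub_eq_zero] at hc
      rw [← hc, ← Finset.sum_neg_distrib]
      refine Finset.sum_congr rfl fun a _ => ?_
      rw [← Finset.sum_neg_distrib]
      refine Finset.sum_congr rfl fun b _ => ?_
      simp only [η, d]
      split_ifs <;> ring
    rw [Polynomial.finsetSum_coeff]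
    simp only [coeff_expand_mul _ _ hj (show n ≤ j by omega), Finset.sum_add_distrib, e0]
    by_cases hnj : n = j
    · subst hnj; simp only [if_true, e1]; ring
    · simp only [if_neg hnj, Finset.sum_const_zero, add_zero]
      exact hfl f hf n hn1 (by omega)
  refine ⟨u, fun f hf n hn => ?_, fun f hf n h1 h2 => ?_, fun a b hab => ?_⟩
  · obtain ⟨P, hP, -⟩ := hcurve f hf
    rw [← hP]
    exact GitQuot.coeff_toLaurent_neg P hn
  · obtain ⟨P, hP, hP'⟩ := hcurve f hf
    rw [← hP, GitQuot.coeff_toLaurent_nat]
    exact hP' n h1 h2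
  · change (∑ m ∈ Finset.range M, (-η) ^ m) a b ≠ 0 at hab
    rw [Matrix.sum_apply] at hab
    obtain ⟨m, -, hm⟩ := Finset.exists_ne_zero_of_sum_ne_zero hab
    have := pow_weight (η := -η) (fun a b h => hη a b (fun e => h (by simp [e]))) m a b hm
    have : (0 : ℤ) ≤ m * j := by positivity
    omega

end Groth.ComodLib.HM
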