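import Groth.Agent.Hopf.HM.Points
import Mathlib.Algebra.Polynomial.Laurent
import Mathlib.RingTheory.Bialgebra.MonoidAlgebra
import Mathlib.Algebra.Polynomial.Expand

/-!
# Diagonal matrices over Laurent polynomials
-/

set_option autoImplicit false
set_option linter.unusedSectionVars false

universe u v w

open TensorProduct Matrix LaurentPolynomial

noncomputable section

namespace Groth.ComodLib.HM

variable {k : Type u} [Field k] {N : ℕ}

section Diag

variable {R : Type v} [CommRing R] [Algebra k R] {R' : Type w} [CommRing R'] [Algebra k R']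

/-- `diag(τ^r)` -/
def dUnit (τ : Rˣ) (r : Fin N → ℤ) : GU N R where
  val := Matrix.diagonal fun i => ((τ ^ r i : Rˣ) : R)
  inv := Matrix.diagonal fun i => ((τ ^ (-r i) : Rˣ) : R)
  val_inv := by
    rw [Matrix.diagonal_mul_diagonal, ← Matrix.diagonal_one]
    congr 1; ext i; simp
  inv_val := by
    rw [Matrix.diagonal_mul_diagonal, ← Matrix.diagonal_one]
    congr 1; ext i; simp

theorem dUnit_val (τ : Rˣ) (r : Fin N → ℤ) : (dUnit τ r).val = Matrix.diagonal fun i => ((τ ^ r i : Rˣ) : R) := rfl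

theorem dUnit_inv (τ : Rˣ) (r : Fin N → ℤ) : (dUnit τ r)⁻¹ = dUnit τ (-r) := by
  apply Units.ext; rfl

theorem dUnit_mul (τ σ : Rˣ) (r : Fin N → ℤ) : dUnit (τ * σ) r = dUnit τ r * dUnit σ r := by
  apply Units.ext
  rw [Units.val_mul, dUnit_val, dUnit_val, dUnit_val, Matrix.diagonal_mul_diagonal]
  congr 1; ext i; simp [mul_zpow]

theorem dUnit_one (r : Fin N → ℤ) : dUnit (1 : Rˣ) r = 1 := by
  apply Units.ext; simp [dUnit_val]

theorem dUnit_commute (τ σ : Rˣ) (r : Fin N → ℤ) : dUnit τ r * dUnit σ r = dUnit σ r * dUnit τ r := by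
  rw [← dUnit_mul, ← dUnit_mul, mul_comm]

theorem gmap_dUnit (φ : R →ₐ[k] R') (τ : Rˣ) (r : Fin N → ℤ) :
    gmap φ (dUnit τ r) = dUnit (Units.map (φ : R →* R') τ) r := by
  apply Units.ext
  rw [gmap_val, dUnit_val, dUnit_val, Matrix.diagonal_map (map_zero φ)]
  congr 1; ext i
  rw [← map_zpow]
  rfl

theorem dUnit_conj (τ : Rˣ) (r : Fin N → ℤ) (X : Matrix (Fin N) (Fin N) R) :
    (dUnit τ r).val * X =
      (Matrix.of fun a b => ((τ ^ (r a - r b) : Rˣ) : R) * X a b) * (dUnit τ r).val := by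
  ext a b
  rw [dUnit_val, Matrix.diagonal_mul, Matrix.mul_diagonal, Matrix.of_apply, mul_right_comm, ← Units.val_mul,
    ← _root_.zpow_add, sub_add_cancel]

/-- scalar matrices -/
def cst (q : GU N k) : GU N R := gmap (Algebra.ofId k R) q

theorem cst_mul (p q : GU N k) : (cst (p * q) : GU N R) = cst p * cst q := map_mul _ _ _

theorem cst_inv (p : GU N k) : (cst p⁻¹ : GU N R) = (cst p)⁻¹ := map_inv _ _

theorem cst_one : (cst (1 : GU N k) : GU N R) = 1 := map_one _

theorem gmap_cst (φ : R →ₐ[k] R') (q : GU N k) : gmap φ (cst q : GU N R) = cst q := by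
  rw [cst, gmap_gmap, show φ.comp (Algebra.ofId k R) = Algebra.ofId k R' from Subsingleton.elim _ _]
  rfl

theorem cst_self (q : GU N k) : (cst q : GU N k) = q := by
  apply Units.ext; ext i j; simp [cst]

theorem cst_dUnit (c : kˣ) (r : Fin N → ℤ) :
    (cst (dUnit c r) : GU N R) = dUnit (Units.map ((Algebra.ofId k R) : k →* R) c) r :=
  gmap_dUnit _ _ _

theorem glPt_cst (q : GU N k) (f : CoordGrp.GLn N k) :
    glPt (cst q : GU N R) f = algebraMap k R (glPt q f) := glPt_gmap_apply _ _ _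

end Diag

section Laurent

variable {R : Type v} [CommRing R] [Algebra k R] {R' : Type w} [CommRing R'] [Algebra k R']

variable (R) in
/-- the variable as a unit -/
def tU : (R[T;T⁻¹])ˣ where
  val := T 1
  inv := T (-1)
  val_inv := by rw [← T_add]; simp
  inv_val := by rw [← T_add]; simp

theorem tU_zpow (n : ℤ) : ((tU R ^ n : (R[T;T⁻¹])ˣ) : R[T;T⁻¹]) = T n := by
  induction n using Int.induction_on with
  | zero => simp
  | succ n ih => rw [_root_.zpow_add_one, Units.val_mul, ih, T_add]; rfl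
  | pred n ih => rw [_root_.zpow_sub_one, Units.val_mul, ih, T_sub]; rfl

theorem dUnit_tU_val (r : Fin N → ℤ) : (dUnit (tU R) r).val = Matrix.diagonal fun i => T (r i) := by
  simp only [dUnit_val, tU_zpow]

/-- coefficientwise map -/
def lmap (φ : R →ₐ[k] R') : R[T;T⁻¹] →ₐ[k] R'[T;T⁻¹] := AddMonoidAlgebra.mapAlgHom ℤ φ

theorem coeff_lmap (φ : R →ₐ[k] R') (x : R[T;T⁻¹]) (n : ℤ) : (lmap φ x).coeff n = φ (x.coeff n) :=
  AddMonoidAlgebra.coeff_mapAlgHom φ x n

theorem lmap_T (φ : R →ₐ[k] R') (n : ℤ) : lmap φ (T n) = T n :=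
  (AddMonoidAlgebra.mapAlgHom_single φ n 1).trans (by rw [map_one]; rfl)

theorem lmap_tU (φ : R →ₐ[k] R') : Units.map (lmap φ : R[T;T⁻¹] →* R'[T;T⁻¹]) (tU R) = tU R' :=
  Units.ext (lmap_T φ 1)

theorem lmap_C (φ : R →ₐ[k] R') (x : R) : lmap φ (C x) = C (φ x) :=
  AddMonoidAlgebra.mapAlgHom_single φ 0 x

variable (R) in
/-- constants -/
def cL : R →ₐ[k] R[T;T⁻¹] where
  __ := (C : R →+* R[T;T⁻¹])
  commutes' _ := rfl

@[simp] theorem cL_apply (x : R) : cL (k := k) R x = C x := rfl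

theorem lmap_comp_cL (φ : R →ₐ[k] R') : (lmap φ).comp (cL R) = (cL R').comp φ :=
  AlgHom.ext fun x => lmap_C φ x

/-- evaluation at a unit, on a map -/
def evU (φ : R →ₐ[k] R') (τ : R'ˣ) : R[T;T⁻¹] →ₐ[k] R' where
  __ := eval₂ φ.toRingHom τ
  commutes' c := by
    change eval₂ φ.toRingHom τ (C (algebraMap k R c)) = _
    rw [eval₂_C]
    exact φ.commutes c

theorem evU_T (φ : R →ₐ[k] R') (τ : R'ˣ) (n : ℤ) : evU φ τ (T n) = ((τ ^ n : R'ˣ) : R') := eval₂_T _ _ n

theorem evU_C (φ : R →ₐ[k] R') (τ : R'ˣ) (x : R) : evU φ τ (C x) = φ x := eval₂_C _ _ x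

theorem evU_tU (φ : R →ₐ[k] R') (τ : R'ˣ) : Units.map (evU φ τ : R[T;T⁻¹] →* R') (tU R) = τ :=
  Units.ext ((evU_T φ τ 1).trans (by rw [zpow_one]))

/-- rescaling the variable -/
def scaleT (τ : Rˣ) : R[T;T⁻¹] →ₐ[k] R[T;T⁻¹] :=
  evU (cL R) (Units.map ((cL (k := k) R) : R →* R[T;T⁻¹]) τ * tU R)

theorem scaleT_tU (τ : Rˣ) :
    Units.map (scaleT (k := k) τ : R[T;T⁻¹] →* R[T;T⁻¹]) (tU R) =
      Units.map ((cL (k := k) R) : R →* R[T;T⁻¹]) τ * tU R := evU_tU _ _

theorem scaleT_comp_cL (τ : Rˣ) : (scaleT (k := k) τ).comp (cL R) = cL R :=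
  AlgHom.ext fun x => evU_C _ _ x

theorem coeff_C_mul_T (x : R) (m n : ℤ) : (C x * T m).coeff n = if m = n then x else 0 := by
  rw [← LaurentPolynomial.single_eq_C_mul_T]
  rw [AddMonoidAlgebra.coeff_single, Finsupp.single_apply]

theorem coeff_scaleT (τ : Rˣ) (x : R[T;T⁻¹]) (n : ℤ) :
    (scaleT (k := k) τ x).coeff n = ((τ ^ n : Rˣ) : R) * x.coeff n := by
  induction x using LaurentPolynomial.induction_on' with
  | add p q hp hq => simp only [map_add, AddMonoidAlgebra.coeff_add, Finsupp.add_apply, hp, hq, mul_add]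
  | C_mul_T m a =>
    rw [map_mul, scaleT, evU_C, evU_T, mul_zpow, Units.val_mul, tU_zpow, ← map_zpow, Units.coe_map, cL_apply,
      MonoidHom.coe_coe, cL_apply, ← mul_assoc, ← map_mul, coeff_C_mul_T, coeff_C_mul_T]
    split_ifs with h
    · subst h; ring
    · simp

theorem eq_zero_of_forall_eval {F : Type u} [Field F] [Infinite F] (L : F[T;T⁻¹])
    (h : ∀ c : Fˣ, evU (AlgHom.id F F) c L = 0) : L = 0 := by
  obtain ⟨n, p, hp⟩ := LaurentPolynomial.exists_T_pow L
  have hp0 : p = 0 := by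
    refine Polynomial.eq_zero_of_infinite_isRoot p (Set.Infinite.mono (s := {0}ᶜ) (fun c hc => ?_)
      (Set.finite_singleton (0 : F)).infinite_compl)
    let u : Fˣ := Units.mk0 c hc
    have := congrArg (evU (AlgHom.id F F) u) hp
    rw [map_mul, h u, zero_mul] at this
    change Polynomial.IsRoot p c
    rw [Polynomial.IsRoot, ← this]
    change _ = eval₂ (RingHom.id F) u (Polynomial.toLaurent p)
    rw [eval₂_toLaurent]
    rfl
  rw [hp0, map_zero, eq_comm] at hp
  exact (isUnit_T _).mul_left_eq_zero.1 hp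

end Laurent

end Groth.ComodLib.HM
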