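import Groth.Agent.Hopf.HM.Reduction
import Groth.Agent.GitQuot.Linear
import Groth.Agent.Limits.DVRAlgebra
import Mathlib.RingTheory.EssentialFiniteness
import Mathlib.Algebra.MvPolynomial.Equiv
import Mathlib.Algebra.Polynomial.Reverse

/-!
# One-parameter subgroups from arcs, for a linear action
-/

set_option autoImplicit false
set_option linter.unusedSectionVars false

universe u

open TensorProduct Matrix LaurentPolynomial

noncomputable section

namespace Groth.ComodLib.HM

section Matrix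

variable {k : Type u} [CommRing k] {A : Type u} [CommRing A] [Bialgebra k A]
  {m n : Type*} [Fintype m] [DecidableEq m] [Fintype n] [DecidableEq n]

theorem isComultMat_fromBlocks {M : Matrix m m A} {C : Matrix n n A} (hM : IsComultMat k M) (hC : IsComultMat k C) :
    IsComultMat k (Matrix.fromBlocks M 0 0 C) := by
  refine ⟨?_, ?_⟩
  · simp only [Matrix.fromBlocks_map, Matrix.map_zero _ (map_zero _), Matrix.fromBlocks_multiply, Matrix.mul_zero,
      Matrix.zero_mul, add_zero, zero_add, hM.1, hC.1]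
  · simp only [Matrix.fromBlocks_map, Matrix.map_zero _ (map_zero _), hM.2, hC.2, Matrix.fromBlocks_one]

end Matrix

variable {k : Type u} [Field k] {A : Type u} [CommRing A] [HopfAlgebra k A]
  {ι : Type u} [Fintype ι] [HopfRep.Comod k A (MvPolynomial ι k)] [GLin.IsCoactAlg k A (MvPolynomial ι k)]

/-- the orbit map in coordinates: the matrix of a linear coaction is comultiplicative -/
theorem exists_comultMat [DecidableEq ι] (hlin : GLin.IsLinear k A ι) :
    ∃ M : Matrix ι ι A, IsComultMat k M ∧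
      ∀ (v : ι → k) (i : ι), GLin.orbitHom k A (GLin.vecPt k ι v) (MvPolynomial.X i) = ∑ l, v l • M l i := by
  choose m hm using hlin
  let φ : ι → MvPolynomial ι k →ₗ[k] k := fun l => MvPolynomial.lcoeff k (Finsupp.single l 1)
  have hφ : ∀ l i, φ l (MvPolynomial.X i) = if l = i then (1 : k) else 0 := fun l i => by
    simp [φ, MvPolynomial.coeff_X', Finsupp.single_left_inj (one_ne_zero (α := ℕ)), eq_comm]
  have hcf : ∀ l i, cf (A := A) (φ l) (MvPolynomial.X i) = m i l := by
    intro l i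
    rw [cf_apply, hm, map_sum]
    simp [lslice_tmul, hφ]
  refine ⟨fun l i => m i l, (isComultMat_iff _).2 ⟨fun l i => ?_, fun l i => ?_⟩, fun v i => ?_⟩
  · rw [← hcf, comul_cf, hm, map_sum]
    simp [hcf]
  · rw [← hcf, apply_cf, op_counit, hφ]
  · refine sub_eq_zero.1 ((Module.forall_dual_apply_eq_zero_iff k _).1 fun ψ => ?_)
    rw [map_sub, GitQuot.dual_orbitHom, op_apply, hm, map_sum, map_sum, map_sum, sub_eq_zero]
    simp [mul_comm]

variable [Algebra.FiniteType k A]

/-- the representation inside a faithful one -/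
theorem exists_embedding (hlin : GLin.IsLinear k A ι) :
    ∃ (N : ℕ) (π : CoordGrp.GLn N k →ₐc[k] A) (e : ι → Fin N), Function.Surjective π ∧
      ∀ v : ι → k, ∃ v' : Fin N → k, (∀ i, v' (e i) = v i) ∧
        (∀ i, (∑ j, algebraMap k A (v' j) * π (CoordGrp.GLn.X j (e i))) =
          GLin.orbitHom k A (GLin.vecPt k ι v) (MvPolynomial.X i)) ∧
        ∀ l, (∀ i, l ≠ e i) → (∑ j, algebraMap k A (v' j) * π (CoordGrp.GLn.X j l)) = 0 := by
  classical
  obtain ⟨M, hM, horb⟩ := exists_comultMat (k := k) (A := A) hlin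
  obtain ⟨n, π₀, hπ₀⟩ := exists_surjective_bialgHom_GLn (k := k) (A := A)
  let C : Matrix (Fin n) (Fin n) A := fun a b => π₀ (CoordGrp.GLn.X a b)
  have hC : IsComultMat k C :=
    (isComultMat_iff (k := k) (CoordGrp.GLn.genMat n k)).2 ⟨CoordGrp.GLn.comul_X, CoordGrp.GLn.counit_X⟩ |>.map π₀
  let ε := Fintype.equivFin (ι ⊕ Fin n)
  let N := Fintype.card (ι ⊕ Fin n)
  let B : Matrix (Fin N) (Fin N) A := Matrix.reindex ε ε (Matrix.fromBlocks M 0 0 C)
  have hB : IsComultMat k B := (isComultMat_fromBlocks hM hC).reindex ε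
  obtain ⟨π, hπ⟩ := exists_bialgHom_of_matrix (k := k) B ((isComultMat_iff _).1 hB).1 ((isComultMat_iff _).1 hB).2
  refine ⟨N, π, fun i => ε (Sum.inl i), ?_, fun v => ?_⟩
  · let S := (π : CoordGrp.GLn N k →ₐ[k] A).range
    have hBS : ∀ a b, B a b ∈ S := fun a b => ⟨CoordGrp.GLn.X a b, hπ a b⟩
    have hMS : ∀ a b, M a b ∈ S := fun a b => by
      have := hBS (ε (Sum.inl a)) (ε (Sum.inl b)); simpa [B] using this
    have hCS : ∀ a b, C a b ∈ S := fun a b => by
      have := hBS (ε (Sum.inr a)) (ε (Sum.inr b)); simpa [B] using this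
    let C' : Matrix (Fin n) (Fin n) S := fun a b => ⟨C a b, hCS a b⟩
    let M' : Matrix ι ι S := fun a b => ⟨M a b, hMS a b⟩
    have hdet : (π : CoordGrp.GLn N k →ₐ[k] A) CoordGrp.GLn.Dinv * (M.det * C.det) = 1 := by
      rw [← Matrix.det_fromBlocks_zero₁₂ M 0 C, ← Matrix.det_reindex_self ε,
        show Matrix.reindex ε ε (Matrix.fromBlocks M 0 0 C) = (CoordGrp.GLn.genMat N k).map (π : CoordGrp.GLn N k →ₐ[k] A) from
          Matrix.ext fun a b => (hπ a b).symm,
        ← AlgHom.mapMatrix_apply, ← AlgHom.map_det, ← CoordGrp.GLn.det_eq, ← map_mul, CoordGrp.GLn.Dinv_mul_det, map_one]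
    let d : S := ⟨(π : CoordGrp.GLn N k →ₐ[k] A) CoordGrp.GLn.Dinv, ⟨_, rfl⟩⟩ * M'.det
    have hd : C'.det * d = 1 := by
      refine Subtype.ext ?_
      change S.val (C'.det * (_ * M'.det)) = 1
      rw [map_mul, map_mul, AlgHom.map_det, AlgHom.map_det]
      change C.det * ((π : CoordGrp.GLn N k →ₐ[k] A) CoordGrp.GLn.Dinv * M.det) = 1
      rw [← hdet]; ring
    have hfac : S.val.comp (CoordGrp.GLn.pt n k C' d hd) = (π₀ : CoordGrp.GLn n k →ₐ[k] A) :=
      glnAlgHom_ext fun a b => by rw [AlgHom.comp_apply, CoordGrp.GLn.pt_X]; rfl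
    intro x
    obtain ⟨y, rfl⟩ := hπ₀ x
    have h1 := AlgHom.congr_fun hfac y
    obtain ⟨z, hz⟩ := (CoordGrp.GLn.pt n k C' d hd y).2
    exact ⟨z, hz.trans h1⟩
  · refine ⟨fun j => Sum.elim v (fun _ => 0) (ε.symm j), fun i => by simp, fun i => ?_, fun l hl => ?_⟩
    · rw [← ε.sum_comp, Fintype.sum_sum_type, horb]
      simp [hπ, B, Algebra.smul_def]
    · obtain ⟨x, rfl⟩ := ε.surjective l
      rw [← ε.sum_comp, Fintype.sum_sum_type]
      cases x with
      | inl i => exact absurd rfl (hl i)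
      | inr b => simp [hπ, B]

theorem eq_zero_of_coords_mem (hlin : GLin.IsLinear k A ι) {L : Type u} [CommRing L] [Nontrivial L] [Algebra k L]
    (a0 : A →ₐ[k] L) {v : ι → k}
    (h : ∀ i, a0 (GLin.orbitHom k A (GLin.vecPt k ι v) (MvPolynomial.X i)) = 0) : v = 0 := by
  obtain ⟨N, π, e, -, hv⟩ := exists_embedding (k := k) (A := A) hlin
  obtain ⟨v', hv', hin, hout⟩ := hv v
  let u := gmap a0 (subU π)
  have h1 : (fun j => algebraMap k L (v' j)) ᵥ* u.val = 0 := by
    funext l
    have h2 : ((fun j => algebraMap k L (v' j)) ᵥ* u.val) l = a0 (∑ j, algebraMap k A (v' j) * π (CoordGrp.GLn.X j l)) := by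
      simp only [map_sum, map_mul, AlgHom.commutes]
      rfl
    rw [h2, Pi.zero_apply]
    by_cases hl : ∃ i, l = e i
    · obtain ⟨i, rfl⟩ := hl
      rw [hin, h i]
    · rw [hout l (not_exists.1 hl), map_zero]
  have h3 : (fun j => algebraMap k L (v' j)) = 0 := by
    rw [← Matrix.vecMul_one (fun j => algebraMap k L (v' j)), ← u.mul_inv, ← Matrix.vecMul_vecMul, h1, Matrix.zero_vecMul]
  funext i
  have := congrFun h3 (e i)
  rw [hv'] at this
  exact (map_eq_zero_iff _ (algebraMap k L).injective).1 this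

variable [IsAlgClosed k] [CharZero k]

/-- **the valuative form of the numerical criterion** -/
theorem exists_lam_of_arc (hG : HopfRep.IsLinearlyReductive k A) (hlin : GLin.IsLinear k A ι) (v : ι → k)
    {K : Type u} [Field K] [Algebra k K] (V : ValuationSubring K) [IsDiscreteValuationRing V]
    (hk : ∀ c : k, algebraMap k K c ∈ V) (a0 : A →ₐ[k] K)
    (hV : ∀ i, a0 (GLin.orbitHom k A (GLin.vecPt k ι v) (MvPolynomial.X i)) ∈ V) :
    ∃ lam : A →ₐc[k] k[T;T⁻¹],
      (∀ i n, n < 0 → (GitQuot.lamCoord lam v i).coeff n = 0) ∧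
      ((∀ i, ∀ w ∈ V, a0 (GLin.orbitHom k A (GLin.vecPt k ι v) (MvPolynomial.X i)) * w ≠ 1) →
        ∀ i n, n ≤ 0 → (GitQuot.lamCoord lam v i).coeff n = 0) ∧
      ((∃ x, a0 x ∉ V) → ¬ SGA3t2b.IsTrivialBialgHom lam) := by
  classical
  letI : Algebra k V := ((algebraMap k K).codRestrict V hk).toAlgebra
  haveI : IsScalarTower k V K := IsScalarTower.of_algebraMap_eq fun _ => rfl
  obtain ⟨N, π, e, hπ, hv⟩ := exists_embedding (k := k) (A := A) hlin
  obtain ⟨v', hv', hin, hout⟩ := hv v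
  have hsum : ∀ l, ∑ j, algebraMap k K (v' j) * a0 (π (CoordGrp.GLn.X j l)) =
      a0 (∑ j, algebraMap k A (v' j) * π (CoordGrp.GLn.X j l)) := fun l => by
    simp only [map_sum, map_mul, AlgHom.commutes]
  have hmem : ∀ l, ∑ j, algebraMap k K (v' j) * a0 (π (CoordGrp.GLn.X j l)) ∈ V := fun l => by
    rw [hsum]
    by_cases hl : ∃ i, l = e i
    · obtain ⟨i, rfl⟩ := hl
      rw [hin]; exact hV i
    · rw [hout l (not_exists.1 hl), map_zero]; exact zero_mem _
  let ev : Fin N → V := fun l => ⟨_, hmem l⟩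
  obtain ⟨s, q, hcv, h1, h0, hs⟩ := exists_isCurve π (O := V) hπ a0 v' ev fun l => rfl
  obtain ⟨lam, hlam, htriv⟩ := exists_oneParam π hG hπ v' s q hcv
  have hcoord : ∀ i, GitQuot.lamCoord lam v i = ∑ j, LaurentPolynomial.C (v' j) * lam (π (CoordGrp.GLn.X j (e i))) := by
    intro i
    have h3 := congrArg (lam : A →ₐ[k] k[T;T⁻¹]) (hin i)
    simp only [map_sum, map_mul, AlgHom.commutes] at h3
    exact h3.symm
  refine ⟨lam, fun i n hn => ?_, fun hnu i n hn => ?_, fun ⟨x, hx⟩ ht => ?_⟩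
  · rw [hcoord]
    exact hlam 1 h1 _ n (by omega)
  · rw [hcoord]
    refine hlam 0 (h0 fun l => ?_) _ n (by simpa using hn)
    rw [IsLocalRing.mem_maximalIdeal, mem_nonunits_iff]
    intro hu
    obtain ⟨w, hw⟩ := hu.exists_right_inv
    have hw' : (∑ j, algebraMap k K (v' j) * a0 (π (CoordGrp.GLn.X j l))) * (w : K) = 1 := congrArg Subtype.val hw
    rw [hsum] at hw'
    by_cases hl : ∃ i, l = e i
    · obtain ⟨i, rfl⟩ := hl
      rw [hin] at hw'; exact hnu i w w.2 hw'
    · rw [hout l (not_exists.1 hl), map_zero, zero_mul] at hw'; exact zero_ne_one hw'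
  · obtain ⟨y, hy⟩ := hs (htriv ht) x
    exact hx (hy ▸ y.2)

end Groth.ComodLib.HM
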