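import Groth.Agent.Hopf.HM.Curve
import Groth.Prelude.Def_SGA3t2b

/-!
# The one-parameter subgroup of a straightened curve
-/

set_option autoImplicit false
set_option linter.unusedSectionVars false

universe u

open TensorProduct Matrix LaurentPolynomial

noncomputable section

namespace Groth.ComodLib.HM

variable {k : Type u} [Field k] [IsAlgClosed k] [CharZero k] {N : ℕ}
  {A : Type u} [CommRing A] [HopfAlgebra k A] [Algebra.FiniteType k A] (π : CoordGrp.GLn N k →ₐc[k] A)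

theorem exists_flat (hG : HopfRep.IsLinearlyReductive k A) (hπ : Function.Surjective π) (v : Fin N → k)
    (s : Fin N → ℤ) (q : GU N k) (hcv : IsCurve π s q) :
    ∀ j : ℕ, ∃ q' : GU N k, IsCurve π s q' ∧ IsFlat π s q' j ∧
      ∀ θ : ℤ, (∀ i, θ ≤ s i → (v ᵥ* (q⁻¹).val) i = 0) → ∀ i, θ ≤ s i → (v ᵥ* (q'⁻¹).val) i = 0
  | 0 => ⟨q, hcv, fun f _ n h1 h2 => absurd h2 (by omega), fun _ h => h⟩
  | j + 1 => by
    obtain ⟨q', h1, h2, h3⟩ := exists_flat hG hπ v s q hcv j
    rcases Nat.eq_zero_or_pos j with hj | hj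
    · subst hj
      exact ⟨q', h1, fun f _ n hn hn' => absurd hn' (by omega), h3⟩
    obtain ⟨u, hu1, hu2, hu3⟩ := exists_step π hG hπ s q' hj h1 h2
    refine ⟨u * q', hu1, hu2, fun θ hθ i hi => ?_⟩
    rw [_root_.mul_inv_rev, Units.val_mul, ← Matrix.vecMul_vecMul]
    simp only [Matrix.vecMul, dotProduct]
    refine Finset.sum_eq_zero fun a _ => ?_
    by_cases ha : (u⁻¹).val a i = 0
    · exact mul_eq_zero_of_right _ ha
    · exact mul_eq_zero_of_left (h3 θ hθ a (hi.trans (hu3 a i ha))) _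

/-- the straightened curve is a one-parameter subgroup of the group -/
theorem exists_conjugate_mem (hG : HopfRep.IsLinearlyReductive k A) (hπ : Function.Surjective π) (v : Fin N → k)
    (s : Fin N → ℤ) (q : GU N k) (hcv : IsCurve π s q) :
    ∃ q' : GU N k,
      (∀ θ : ℤ, (∀ i, θ ≤ s i → (v ᵥ* (q⁻¹).val) i = 0) → ∀ i, θ ≤ s i → (v ᵥ* (q'⁻¹).val) i = 0) ∧
      RingHom.ker (π : CoordGrp.GLn N k →ₐ[k] A) ≤
        RingHom.ker (glPt (k := k) (cst q'⁻¹ * (dUnit (tU k) (-s) * cst q') : GU N k[T;T⁻¹])) := by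
  classical
  have := finiteType_GLn (k := k) (N := N)
  have : IsNoetherianRing (CoordGrp.GLn N k) := Algebra.FiniteType.isNoetherianRing k _
  obtain ⟨F, hFS, hFspan⟩ := (Submodule.fg_span_iff_fg_span_finset_subset _).1
    (IsNoetherian.noetherian (idealS π : Submodule (CoordGrp.GLn N k) (CoordGrp.GLn N k)))
  -- a degree bound uniform in the matrices
  let P := CoordGrp.GLn N k
  let UL : GU N (P ⊗[k] P) := gmap (Algebra.TensorProduct.includeLeft (S := k)) (genU k N)
  let UR : GU N (P ⊗[k] P) := gmap Algebra.TensorProduct.includeRight (genU k N)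
  let Z : P →ₐ[k] (P ⊗[k] P)[T;T⁻¹] :=
    glPt (gmap (cL (k := k) (P ⊗[k] P)) UL * (dUnit (tU (P ⊗[k] P)) s * gmap (cL (k := k) (P ⊗[k] P)) UR))
  let B : ℕ := F.sup fun f => (Z f).coeff.support.sup Int.natAbs
  obtain ⟨q', hc, hf, hθ⟩ := exists_flat π hG hπ v s q hcv (B + 1)
  refine ⟨q', hθ, ?_⟩
  rw [← idealS_eq_ker π hG hπ]
  change Ideal.span _ ≤ _
  rw [show Ideal.span (mS π : Set P) = Submodule.span P (F : Set P) from hFspan]
  refine Submodule.span_le.2 fun f hfF => ?_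
  obtain ⟨hfS, hf1⟩ : f ∈ mS π := hFS hfF
  rw [SetLike.mem_coe, RingHom.mem_ker]
  -- inversion of the variable
  have hinv : (cst q'⁻¹ * (dUnit (tU k) (-s) * cst q') : GU N k[T;T⁻¹]) =
      gmap ((invert (R := k) : k[T;T⁻¹] ≃ₐ[k] k[T;T⁻¹]) : k[T;T⁻¹] →ₐ[k] k[T;T⁻¹])
        (cst q'⁻¹ * (dUnit (tU k) s * cst q')) := by
    rw [map_mul, map_mul, gmap_cst, gmap_cst]
    congr 2
    apply Units.ext
    rw [gmap_val, dUnit_tU_val, dUnit_tU_val, Matrix.diagonal_map (map_zero _)]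
    congr 1
    ext i : 1
    simp
  suffices h : glPt (cst q'⁻¹ * (dUnit (tU k) s * cst q') : GU N k[T;T⁻¹]) f = 0 by
    rw [hinv, glPt_gmap_apply, h, map_zero]
  let fw := glPt (gmap (Algebra.ofId k P) q'⁻¹ * genU k N) f
  have hfw : fw ∈ InvS π := glPt_translate_mem π _ hfS
  rw [← curve_translate]
  change curve s q' fw = 0
  have hbound : ∀ n : ℤ, B < n.natAbs → (curve s q' fw).coeff n = 0 := by
    intro n hn
    let φ : P ⊗[k] P →ₐ[k] k :=
      Algebra.TensorProduct.lift (glPt q'⁻¹) (glPt q') fun _ _ => Commute.all _ _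
    have hL : φ.comp (Algebra.TensorProduct.includeLeft (S := k)) = glPt q'⁻¹ := AlgHom.ext fun p => by simp [φ]
    have hR : φ.comp Algebra.TensorProduct.includeRight = glPt q' := AlgHom.ext fun p => by simp [φ]
    have hg : ∀ u : GU N k, gmap (glPt u) (genU k N) = u := fun u => by apply Units.ext; ext i j; simp
    have hmap : glPt (cst q'⁻¹ * (dUnit (tU k) s * cst q') : GU N k[T;T⁻¹]) f = lmap φ (Z f) := by
      have hcomm : ∀ X : GU N (P ⊗[k] P), gmap (lmap φ) (gmap (cL (k := k) (P ⊗[k] P)) X) =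
          gmap (cL (k := k) k) (gmap φ X) := fun X => by
        rw [gmap_gmap, gmap_gmap, lmap_comp_cL]
      rw [← glPt_gmap_apply, map_mul, map_mul, gmap_dUnit, lmap_tU, hcomm, hcomm, gmap_gmap φ, gmap_gmap φ,
        hL, hR, hg, hg]
      rfl
    rw [curve_translate, hmap, coeff_lmap, Finsupp.notMem_support_iff.1 (fun hmem => ?_), map_zero]
    have h1 : (Z f).coeff.support.sup Int.natAbs ≤ B := Finset.le_sup (f := fun f => (Z f).coeff.support.sup Int.natAbs) hfF
    have h2 := Finset.le_sup (f := Int.natAbs) hmem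
    omega
  have hC : curve s q' fw = LaurentPolynomial.C ((curve s q' fw).coeff 0) := by
    refine LaurentPolynomial.ext fun n => ?_
    have hC0 : (LaurentPolynomial.C ((curve s q' fw).coeff 0)).coeff n =
        if 0 = n then (curve s q' fw).coeff 0 else 0 := by
      have := coeff_C_mul_T ((curve s q' fw).coeff 0) 0 n
      rwa [T_zero, mul_one] at this
    rw [hC0]
    rcases lt_trichotomy n 0 with hn | hn | hn
    · rw [hc fw hfw n hn, if_neg (by omega)]
    · subst hn; simp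
    · rw [if_neg (by omega)]
      by_cases hnB : B < n.natAbs
      · exact hbound n hnB
      · lift n to ℕ using hn.le
        exact hf fw hfw n (by omega) (by simp at hnB; omega)
  have h0 : (curve s q' fw).coeff 0 = 0 := by
    have h := congrArg (evU (k := k) (AlgHom.id k k) 1) hC
    rw [evU_C, AlgHom.id_apply] at h
    rw [← h, curve_translate, ← glPt_gmap_apply, map_mul, map_mul, gmap_dUnit, evU_tU, dUnit_one, gmap_cst, gmap_cst,
      one_mul, ← cst_mul, inv_mul_cancel, cst_one]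
    exact hf1
  rw [hC, h0, map_zero]

theorem exists_oneParam (hG : HopfRep.IsLinearlyReductive k A) (hπ : Function.Surjective π) (v : Fin N → k)
    (s : Fin N → ℤ) (q : GU N k) (hcv : IsCurve π s q) :
    ∃ lam : A →ₐc[k] k[T;T⁻¹],
      (∀ θ : ℤ, (∀ i, θ ≤ s i → (v ᵥ* (q⁻¹).val) i = 0) → ∀ (l : Fin N) (n : ℤ), n ≤ -θ →
        (∑ i, LaurentPolynomial.C (v i) * lam (π (CoordGrp.GLn.X i l))).coeff n = 0) ∧
      (SGA3t2b.IsTrivialBialgHom lam → s = 0) := by
  classical
  obtain ⟨p, hθ, hker⟩ := exists_conjugate_mem π hG hπ v s q hcv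
  let Λ : GU N k[T;T⁻¹] := cst p⁻¹ * (dUnit (tU k) (-s) * cst p)
  let a : A →ₐ[k] k[T;T⁻¹] := AlgHom.liftOfSurjective (π : CoordGrp.GLn N k →ₐ[k] A) hπ (glPt Λ) hker
  have ha : a.comp (π : CoordGrp.GLn N k →ₐ[k] A) = glPt Λ := AlgHom.liftOfSurjective_comp _ _ _ _
  have hε : gmap (Bialgebra.counitAlgHom k k[T;T⁻¹]) Λ = 1 := by
    rw [map_mul, map_mul, gmap_cst, gmap_cst, gmap_dUnit,
      show Units.map (Bialgebra.counitAlgHom k k[T;T⁻¹] : k[T;T⁻¹] →* k) (tU k) = 1 from Units.ext (counit_T 1),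
      dUnit_one, one_mul, ← cst_mul, inv_mul_cancel, cst_one]
  have hΔ : gmap (Bialgebra.comulAlgHom k k[T;T⁻¹]) Λ =
      gmap (Algebra.TensorProduct.includeLeft (S := k) : k[T;T⁻¹] →ₐ[k] k[T;T⁻¹] ⊗[k] k[T;T⁻¹]) Λ *
        gmap Algebra.TensorProduct.includeRight Λ := by
    simp only [Λ, map_mul, gmap_cst, gmap_dUnit]
    have hT : Units.map (Bialgebra.comulAlgHom k k[T;T⁻¹] : k[T;T⁻¹] →* k[T;T⁻¹] ⊗[k] k[T;T⁻¹]) (tU k) =
        Units.map (((Algebra.TensorProduct.includeLeft (S := k) : k[T;T⁻¹] →ₐ[k] k[T;T⁻¹] ⊗[k] k[T;T⁻¹]))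
          : k[T;T⁻¹] →* k[T;T⁻¹] ⊗[k] k[T;T⁻¹]) (tU k) *
        Units.map (((Algebra.TensorProduct.includeRight : k[T;T⁻¹] →ₐ[k] k[T;T⁻¹] ⊗[k] k[T;T⁻¹]))
          : k[T;T⁻¹] →* k[T;T⁻¹] ⊗[k] k[T;T⁻¹]) (tU k) := by
      apply Units.ext
      change Coalgebra.comul (R := k) (T 1 : k[T;T⁻¹]) = (T 1 ⊗ₜ[k] (1 : k[T;T⁻¹])) * ((1 : k[T;T⁻¹]) ⊗ₜ[k] T 1)
      rw [comul_T, Algebra.TensorProduct.tmul_mul_tmul, one_mul, mul_one]
    rw [hT, dUnit_mul, cst_inv]
    group
  let lam : A →ₐc[k] k[T;T⁻¹] := BialgHom.ofAlgHom a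
    (by
      refine AlgHom.ext fun x => ?_
      obtain ⟨y, rfl⟩ := hπ x
      have h1 : ((Bialgebra.counitAlgHom k k[T;T⁻¹]).comp a).comp (π : CoordGrp.GLn N k →ₐ[k] A) =
          (Bialgebra.counitAlgHom k A).comp (π : CoordGrp.GLn N k →ₐ[k] A) := by
        rw [AlgHom.comp_assoc, ha, ← glPt_gmap, hε, glPt_one, Algebra.ofId_self, AlgHom.id_comp]
        exact AlgHom.ext fun y => (CoalgHomClass.counit_comp_apply π y).symm
      exact AlgHom.congr_fun h1 y)
    (by
      refine AlgHom.ext fun x => ?_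
      obtain ⟨y, rfl⟩ := hπ x
      have h1 : ((Algebra.TensorProduct.map a a).comp (Bialgebra.comulAlgHom k A)).comp (π : CoordGrp.GLn N k →ₐ[k] A) =
          ((Bialgebra.comulAlgHom k k[T;T⁻¹]).comp a).comp (π : CoordGrp.GLn N k →ₐ[k] A) := by
        rw [AlgHom.comp_assoc (Bialgebra.comulAlgHom k k[T;T⁻¹]), ha, ← glPt_gmap, hΔ, glPt_mul, glPt_gmap, glPt_gmap,
          ← ha]
        refine AlgHom.ext fun y => ?_
        simp only [AlgHom.comp_apply, Bialgebra.comulAlgHom_apply, BialgHom.coe_toAlgHom]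
        rw [← CoalgHomClass.map_comp_comul_apply π]
        induction Coalgebra.comul (R := k) y using TensorProduct.induction_on with
        | zero => simp
        | tmul c d => simp
        | add c d hc hd => simp only [map_add, hc, hd]
      exact AlgHom.congr_fun h1 y)
  have hlam : ∀ i l, lam (π (CoordGrp.GLn.X i l)) = Λ.val i l := fun i l =>
    (AlgHom.congr_fun ha (CoordGrp.GLn.X i l)).trans (glPt_X Λ i l)
  refine ⟨lam, fun θ hv l n hn => ?_, fun htriv => ?_⟩
  · simp only [hlam]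
    have hvec : (fun i => LaurentPolynomial.C (v i)) ᵥ* Λ.val =
        fun l => ∑ i, LaurentPolynomial.C ((v ᵥ* (p⁻¹).val) i * p.val i l) * T (-s i) := by
      ext1 l
      simp only [Λ, Units.val_mul, cst, gmap_val, dUnit_tU_val, ← Matrix.vecMul_vecMul]
      have hC : (fun i => LaurentPolynomial.C (v i)) ᵥ* ((p⁻¹).val.map (Algebra.ofId k k[T;T⁻¹])) =
          fun i => LaurentPolynomial.C ((v ᵥ* (p⁻¹).val) i) := by
        ext1 i
        simp [Matrix.vecMul, dotProduct, map_sum]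
      rw [hC, Matrix.vecMul, dotProduct]
      refine Finset.sum_congr rfl fun i _ => ?_
      rw [Matrix.vecMul_diagonal, Matrix.map_apply, Algebra.ofId_apply, map_mul]
      change _ * LaurentPolynomial.C (p.val i l) = _
      rw [Pi.neg_apply]
      ring
    have := congrFun hvec l
    rw [Matrix.vecMul, dotProduct] at this
    rw [this, AddMonoidAlgebra.coeff_sum, Finsupp.finsetSum_apply]
    refine Finset.sum_eq_zero fun i _ => ?_
    rw [coeff_C_mul_T]
    split_ifs with hi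
    · rw [hθ θ hv i (by omega), zero_mul]
    · rfl
  · have hΛ : Λ = 1 := by
      apply Units.ext
      ext i l : 1
      rw [← hlam, htriv, CoalgHomClass.counit_comp_apply, CoordGrp.GLn.counit_X, Units.val_one, Matrix.one_apply]
      split_ifs <;> simp
    have hd : (dUnit (tU k) (-s) : GU N k[T;T⁻¹]) = 1 := by
      have := congrArg (fun u => cst p * u * (cst p⁻¹ : GU N k[T;T⁻¹])) hΛ
      simpa [Λ, mul_assoc, cst_inv] using this
    ext i
    have := congrArg (fun u : GU N k[T;T⁻¹] => (u.val i i).coeff (-s i)) hd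
    simp only [dUnit_tU_val, Matrix.diagonal_apply_eq, Units.val_one, Matrix.one_apply_eq, Pi.neg_apply] at this
    by_contra hne
    have h1 : ((T (-s i) : k[T;T⁻¹])).coeff (-s i) = 1 := by
      have := coeff_C_mul_T (1 : k) (-s i) (-s i)
      rwa [map_one, one_mul, if_pos rfl] at this
    have h2 : ((1 : k[T;T⁻¹])).coeff (-s i) = 0 := by
      have := coeff_C_mul_T (1 : k) 0 (-s i)
      rwa [map_one, one_mul, T_zero, if_neg (fun e => hne (by simp only [Pi.zero_apply]; omega))] at this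
    rw [h1, h2] at this
    exact one_ne_zero this

end Groth.ComodLib.HM
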