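import Groth.Agent.Hopf.CharFun
import Groth.Agent.Hopf.Push
import Groth.Agent.GitQuot.Orbits
import Groth.Prelude.Def_GLin5
import Mathlib.LinearAlgebra.Matrix.GeneralLinearGroup.Defs

/-!
# Points of `GL_N`, a subgroup given by a comultiplicative matrix, functions invariant under it
-/

set_option autoImplicit false
set_option linter.unusedSectionVars false

universe u v w

open TensorProduct Matrix

noncomputable section

namespace Groth.ComodLib.HM

variable {k : Type u} [Field k] {N : ℕ}

/-- invertible matrices -/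
abbrev GU (N : ℕ) (R : Type*) [CommRing R] := (Matrix (Fin N) (Fin N) R)ˣ

section Functor

variable {R : Type v} [CommRing R] [Algebra k R] {R' : Type w} [CommRing R'] [Algebra k R']

/-- functoriality -/
def gmap (φ : R →ₐ[k] R') : GU N R →* GU N R' :=
  Units.map φ.mapMatrix.toMonoidHom

@[simp] theorem gmap_val (φ : R →ₐ[k] R') (u : GU N R) : (gmap φ u).val = u.val.map φ := rfl

theorem gmap_gmap {R'' : Type*} [CommRing R''] [Algebra k R''] (ψ : R' →ₐ[k] R'') (φ : R →ₐ[k] R')
    (u : GU N R) : gmap ψ (gmap φ u) = gmap (ψ.comp φ) u := by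
  ext i j; rfl

theorem gmap_id (u : GU N R) : gmap (AlgHom.id k R) u = u := by
  ext i j; rfl

/-- the point of `GL_N` of an invertible matrix -/
def glPt (u : GU N R) : CoordGrp.GLn N k →ₐ[k] R :=
  CoordGrp.GLn.pt N k u.val (u⁻¹).val.det (by rw [← Matrix.det_mul, Units.mul_inv, Matrix.det_one])

@[simp] theorem glPt_X (u : GU N R) (i j : Fin N) : glPt (k := k) u (CoordGrp.GLn.X i j) = u.val i j :=
  CoordGrp.GLn.pt_X _ _ _ i j

theorem glPt_gmap (φ : R →ₐ[k] R') (u : GU N R) : glPt (gmap φ u) = φ.comp (glPt u) :=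
  glnAlgHom_ext fun i j => by simp

theorem glPt_gmap_apply (φ : R →ₐ[k] R') (u : GU N R) (f : CoordGrp.GLn N k) :
    glPt (gmap φ u) f = φ (glPt u f) := by
  rw [glPt_gmap]; rfl

theorem glPt_mul (u u' : GU N R) : glPt (k := k) (u * u') =
    (Algebra.TensorProduct.lift (glPt u) (glPt u') fun _ _ => Commute.all _ _).comp
      (Bialgebra.comulAlgHom k (CoordGrp.GLn N k)) :=
  glnAlgHom_ext fun i j => by
    rw [glPt_X, AlgHom.comp_apply, Bialgebra.comulAlgHom_apply, CoordGrp.GLn.comul_X]
    simp [Matrix.mul_apply]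

theorem glPt_one : glPt (k := k) (1 : GU N R) =
    (Algebra.ofId k R).comp (Bialgebra.counitAlgHom k (CoordGrp.GLn N k)) :=
  glnAlgHom_ext fun i j => by
    rw [glPt_X, AlgHom.comp_apply, Bialgebra.counitAlgHom_apply, CoordGrp.GLn.counit_X, Units.val_one,
      Matrix.one_apply]
    split_ifs <;> simp

end Functor

variable (k N) in
/-- the generic invertible matrix -/
def genU : GU N (CoordGrp.GLn N k) where
  val := CoordGrp.GLn.genMat N k
  inv := fun i j => CoordGrp.GLn.Dinv * (CoordGrp.GLn.genMat N k).adjugate i j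
  val_inv := by
    ext i j
    simpa [Matrix.mul_apply, CoordGrp.GLn.genMat, Matrix.one_apply] using CoordGrp.GLn.antipode_key_right (k := k) i j
  inv_val := by
    ext i j
    simpa [Matrix.mul_apply, CoordGrp.GLn.genMat, Matrix.one_apply] using CoordGrp.GLn.antipode_key_left (k := k) i j

@[simp] theorem genU_val (i j : Fin N) : (genU k N).val i j = CoordGrp.GLn.X i j := rfl

theorem glPt_genU : glPt (genU k N) = AlgHom.id k (CoordGrp.GLn N k) :=
  glnAlgHom_ext fun i j => by simp

theorem glPt_genU_inv : glPt (genU k N)⁻¹ = HopfAlgebra.antipodeAlgHom k (CoordGrp.GLn N k) :=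
  glnAlgHom_ext fun i j => by
    rw [glPt_X, HopfAlgebra.antipodeAlgHom_apply, CoordGrp.GLn.antipode_X]
    rfl

theorem eq_glPt {R : Type v} [CommRing R] [Algebra k R] (p : CoordGrp.GLn N k →ₐ[k] R) :
    p = glPt (gmap p (genU k N)) := by
  rw [glPt_gmap, glPt_genU, AlgHom.comp_id]

/-! ### the subgroup given by a comultiplicative matrix -/

variable {A : Type u} [CommRing A] [HopfAlgebra k A] (π : CoordGrp.GLn N k →ₐc[k] A)

/-- the universal element of the subgroup -/
def subU : GU N A := gmap (π : CoordGrp.GLn N k →ₐ[k] A) (genU k N)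

theorem glPt_subU : glPt (subU π) = (π : CoordGrp.GLn N k →ₐ[k] A) := (eq_glPt _).symm

theorem gmap_subU_conv {R : Type v} [CommRing R] [Algebra k R] (a b : A →ₐ[k] R) :
    gmap ((Algebra.TensorProduct.lift a b fun _ _ => Commute.all _ _).comp (Bialgebra.comulAlgHom k A)) (subU π) =
      gmap a (subU π) * gmap b (subU π) := by
  apply Units.ext
  ext i j
  rw [gmap_val, Units.val_mul, Matrix.map_apply, Matrix.mul_apply]
  simp only [subU, gmap_val, Matrix.map_apply, genU_val, AlgHom.comp_apply, Bialgebra.comulAlgHom_apply,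
    BialgHom.coe_toAlgHom]
  rw [← CoalgHomClass.map_comp_comul_apply π, CoordGrp.GLn.comul_X, map_sum, map_sum]
  simp

theorem gmap_subU_counit {R : Type v} [CommRing R] [Algebra k R] :
    gmap ((Algebra.ofId k R).comp (Bialgebra.counitAlgHom k A)) (subU π) = 1 := by
  apply Units.ext
  ext i j
  simp only [subU, gmap_val, Matrix.map_apply, genU_val, AlgHom.comp_apply, Bialgebra.counitAlgHom_apply,
    BialgHom.coe_toAlgHom, CoalgHomClass.counit_comp_apply, CoordGrp.GLn.counit_X, Units.val_one, Matrix.one_apply]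
  split_ifs <;> simp

theorem gmap_subU_antipode {R : Type v} [CommRing R] [Algebra k R] (a : A →ₐ[k] R) :
    gmap (a.comp (HopfAlgebra.antipodeAlgHom k A)) (subU π) = (gmap a (subU π))⁻¹ := by
  refine eq_inv_of_mul_eq_one_right ?_
  rw [← gmap_subU_conv, ← gmap_subU_counit (k := k) (R := R) π]
  refine congrArg (fun φ : A →ₐ[k] R => gmap φ (subU π)) (AlgHom.ext fun x => ?_)
  have h := congrArg a (HopfAlgebra.mul_antipode_lTensor_comul_apply (R := k) x)
  rw [AlgHom.commutes] at h
  refine Eq.trans ?_ h
  simp only [AlgHom.comp_apply, Bialgebra.comulAlgHom_apply]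
  induction Coalgebra.comul (R := k) x using TensorProduct.induction_on with
  | zero => simp
  | tmul p q => simp
  | add p q hp hq => simp only [map_add, hp, hq]

/-! ### the coaction by right translations and its invariants -/

/-- `GL_N` with the action of the subgroup by right translations -/
@[reducible] def rightComod : HopfRep.Comod k A (CoordGrp.GLn N k) :=
  pushComod (π : CoordGrp.GLn N k →ₗc[k] A) inferInstance

theorem coact_right (f : CoordGrp.GLn N k) :
    (rightComod π).coact f =
      glPt (gmap (Algebra.TensorProduct.includeLeft (S := k) : CoordGrp.GLn N k →ₐ[k] CoordGrp.GLn N k ⊗[k] A)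
          (genU k N) *
        gmap (Algebra.TensorProduct.includeRight : A →ₐ[k] CoordGrp.GLn N k ⊗[k] A) (subU π)) f := by
  rw [glPt_mul, glPt_gmap, glPt_gmap, glPt_genU, glPt_subU, AlgHom.comp_apply, Bialgebra.comulAlgHom_apply]
  change (π : CoordGrp.GLn N k →ₗc[k] A).toLinearMap.lTensor (CoordGrp.GLn N k) (Coalgebra.comul (R := k) f) = _
  induction Coalgebra.comul (R := k) f using TensorProduct.induction_on with
  | zero => simp
  | tmul p q => simp
  | add p q hp hq => simp only [map_add, hp, hq]

theorem isCoactAlg_right : @GLin.IsCoactAlg k _ A _ _ (CoordGrp.GLn N k) _ _ (rightComod π) :=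
  letI := rightComod π
  { coact_one := by rw [coact_right, map_one]
    coact_mul := fun f g => by rw [coact_right, coact_right, coact_right, map_mul] }

/-- functions on `GL_N` invariant under right translations by the subgroup -/
def InvS : Subalgebra k (CoordGrp.GLn N k) :=
  letI := rightComod π
  letI := isCoactAlg_right π
  GLin.invariants k A (CoordGrp.GLn N k)

theorem mem_invS_iff (f : CoordGrp.GLn N k) :
    f ∈ InvS π ↔
      glPt (gmap (Algebra.TensorProduct.includeLeft (S := k) : CoordGrp.GLn N k →ₐ[k] CoordGrp.GLn N k ⊗[k] A)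
          (genU k N) *
        gmap (Algebra.TensorProduct.includeRight : A →ₐ[k] CoordGrp.GLn N k ⊗[k] A) (subU π)) f =
        f ⊗ₜ[k] (1 : A) := by
  rw [← coact_right]
  rfl

theorem invariant_mul {R : Type v} [CommRing R] [Algebra k R] {f : CoordGrp.GLn N k} (hf : f ∈ InvS π)
    (u : GU N R) (a : A →ₐ[k] R) : glPt (u * gmap a (subU π)) f = glPt u f := by
  let L : CoordGrp.GLn N k ⊗[k] A →ₐ[k] R := Algebra.TensorProduct.lift (glPt u) a fun _ _ => Commute.all _ _
  have h1 : L.comp (Algebra.TensorProduct.includeLeft (S := k)) = glPt u :=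
    AlgHom.ext fun p => by simp [L]
  have h2 : L.comp Algebra.TensorProduct.includeRight = a := AlgHom.ext fun p => by simp [L]
  have h3 : gmap (glPt u) (genU k N) = u := by
    apply Units.ext; ext i j; simp
  have h := congrArg L ((mem_invS_iff π f).1 hf)
  rw [← glPt_gmap_apply, map_mul, gmap_gmap, gmap_gmap, h1, h2, h3] at h
  simpa [L] using h

/-- left translations by points with values in an algebra, on the invariant functions -/
theorem exists_decomp {B : Type u} [CommRing B] [Algebra k B] (w : GU N B) {f : CoordGrp.GLn N k}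
    (hf : f ∈ InvS π) :
    ∃ (n : ℕ) (b : Fin n → B) (F : Fin n → CoordGrp.GLn N k), (∀ i, F i ∈ InvS π) ∧
      ∀ (R : Type u) [CommRing R] [Algebra k R] (ρ : B →ₐ[k] R) (u : GU N R),
        glPt (gmap ρ w * u) f = ∑ i, ρ (b i) * glPt u (F i) := by
  classical
  let P := CoordGrp.GLn N k
  let iB : B →ₐ[k] B ⊗[k] P := Algebra.TensorProduct.includeLeft (S := k)
  let iP : P →ₐ[k] B ⊗[k] P := Algebra.TensorProduct.includeRight
  let z : B ⊗[k] P := glPt (gmap iB w * gmap iP (genU k N)) f
  -- invariance
  let jP : P →ₐ[k] P ⊗[k] A :=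
    glPt (gmap (Algebra.TensorProduct.includeLeft (S := k) : P →ₐ[k] P ⊗[k] A) (genU k N) *
        gmap (Algebra.TensorProduct.includeRight : A →ₐ[k] P ⊗[k] A) (subU π))
  let iA : P →ₐ[k] P ⊗[k] A := Algebra.TensorProduct.includeLeft (S := k)
  have key : Algebra.TensorProduct.map (AlgHom.id k B) jP z = Algebra.TensorProduct.map (AlgHom.id k B) iA z := by
    have e1 : (Algebra.TensorProduct.map (AlgHom.id k B) jP).comp iB =
        (Algebra.TensorProduct.includeLeft (S := k) : B →ₐ[k] B ⊗[k] (P ⊗[k] A)) :=
      AlgHom.ext fun b => by simp [iB]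
    have e2 : (Algebra.TensorProduct.map (AlgHom.id k B) iA).comp iB =
        (Algebra.TensorProduct.includeLeft (S := k) : B →ₐ[k] B ⊗[k] (P ⊗[k] A)) :=
      AlgHom.ext fun b => by simp [iB]
    have e3 : gmap ((Algebra.TensorProduct.map (AlgHom.id k B) jP).comp iP) (genU k N) =
        gmap ((Algebra.TensorProduct.map (AlgHom.id k B) iA).comp iP) (genU k N) *
          gmap ((Algebra.TensorProduct.includeRight : P ⊗[k] A →ₐ[k] B ⊗[k] (P ⊗[k] A)).comp
            Algebra.TensorProduct.includeRight) (subU π) := by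
      have a1 : (Algebra.TensorProduct.map (AlgHom.id k B) jP).comp iP =
          (Algebra.TensorProduct.includeRight : P ⊗[k] A →ₐ[k] B ⊗[k] (P ⊗[k] A)).comp jP :=
        AlgHom.ext fun p => by simp [iP]
      have a2 : (Algebra.TensorProduct.map (AlgHom.id k B) iA).comp iP =
          (Algebra.TensorProduct.includeRight : P ⊗[k] A →ₐ[k] B ⊗[k] (P ⊗[k] A)).comp iA :=
        AlgHom.ext fun p => by simp [iP]
      rw [a1, a2, ← gmap_gmap, ← gmap_gmap, ← gmap_gmap, ← map_mul]
      congr 1
      apply Units.ext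
      ext i j
      simp only [gmap_val, Matrix.map_apply, genU_val, jP]
      exact glPt_X _ i j
    change Algebra.TensorProduct.map (AlgHom.id k B) jP (glPt (gmap iB w * gmap iP (genU k N)) f) =
      Algebra.TensorProduct.map (AlgHom.id k B) iA (glPt (gmap iB w * gmap iP (genU k N)) f)
    rw [← glPt_gmap_apply, ← glPt_gmap_apply, map_mul, map_mul, gmap_gmap, gmap_gmap, gmap_gmap, gmap_gmap,
      e1, e2, e3, ← mul_assoc, invariant_mul π hf]
  -- coordinates in a basis of `B`
  let bas := Module.Basis.ofVectorSpace k B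
  let c := TensorProduct.equivFinsuppOfBasisLeft (N := P) bas z
  have hz : z = c.sum fun i m => bas i ⊗ₜ[k] m := by
    rw [← TensorProduct.equivFinsuppOfBasisLeft_symm_apply, LinearEquiv.symm_apply_apply]
  have hc : ∀ i, c i ∈ InvS π := by
    intro i
    rw [mem_invS_iff]
    change jP (c i) = iA (c i)
    have h := congrArg (fun x => TensorProduct.equivFinsuppOfBasisLeft (N := P ⊗[k] A) bas x i) key
    have hmap : ∀ (φ : P →ₐ[k] P ⊗[k] A),
        TensorProduct.equivFinsuppOfBasisLeft (N := P ⊗[k] A) bas (Algebra.TensorProduct.map (AlgHom.id k B) φ z) i =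
          φ (c i) := by
      intro φ
      change _ = φ (TensorProduct.equivFinsuppOfBasisLeft (N := P) bas z i)
      induction z using TensorProduct.induction_on with
      | zero => simp
      | tmul p q => simp
      | add p q hp hq => simp only [map_add, Finsupp.add_apply, hp, hq]
    simp only [hmap] at h
    exact h
  let e := c.support.equivFin.symm
  refine ⟨_, fun i => bas (e i : _), fun i => c (e i : _), fun i => hc _, fun R _ _ ρ u => ?_⟩
  let L : B ⊗[k] P →ₐ[k] R := Algebra.TensorProduct.lift ρ (glPt u) fun _ _ => Commute.all _ _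
  have h1 : L z = glPt (gmap ρ w * u) f := by
    change L (glPt (gmap iB w * gmap iP (genU k N)) f) = _
    rw [← glPt_gmap_apply, map_mul, gmap_gmap, gmap_gmap]
    congr
    · exact AlgHom.ext fun b => by simp [L, iB]
    · apply Units.ext; ext i j; simp [L, iP]; exact glPt_X u i j
  rw [← h1, hz, map_finsuppSum, Finsupp.sum, ← Finset.sum_coe_sort, ← e.sum_comp]
  simp [L]

/-- translation of an invariant function by a rational point -/
theorem glPt_translate_mem (g : GU N k) {f : CoordGrp.GLn N k} (hf : f ∈ InvS π) :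
    glPt (gmap (Algebra.ofId k (CoordGrp.GLn N k)) g * genU k N) f ∈ InvS π := by
  obtain ⟨n, b, F, hF, h⟩ := exists_decomp π g hf
  rw [h _ _ (genU k N)]
  refine sum_mem fun i _ => mul_mem (Subalgebra.algebraMap_mem _ (b i)) ?_
  rw [glPt_genU]
  exact hF i

theorem glPt_translate_apply {R : Type v} [CommRing R] [Algebra k R] (g : GU N k) (u : GU N R)
    (f : CoordGrp.GLn N k) :
    glPt u (glPt (gmap (Algebra.ofId k (CoordGrp.GLn N k)) g * genU k N) f) =
      glPt (gmap (Algebra.ofId k R) g * u) f := by
  rw [← glPt_gmap_apply, map_mul, gmap_gmap]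
  congr
  · exact AlgHom.ext fun c => by simp
  · apply Units.ext; ext i j; simp

/-- points with the same values on the invariants stay so after left translation -/
theorem congr_left {R : Type u} [CommRing R] [Algebra k R] (w u u' : GU N R)
    (h : ∀ f ∈ InvS π, glPt u f = glPt u' f) {f : CoordGrp.GLn N k} (hf : f ∈ InvS π) :
    glPt (w * u) f = glPt (w * u') f := by
  obtain ⟨n, b, F, hF, hd⟩ := exists_decomp π w hf
  have e := hd R (AlgHom.id k R) u
  have e' := hd R (AlgHom.id k R) u'
  rw [gmap_id] at e e'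
  rw [e, e']
  exact Finset.sum_congr rfl fun i _ => by rw [h _ (hF i)]

end Groth.ComodLib.HM
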