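import Groth.Agent.Hopf.HM.OneParam
import Mathlib.RingTheory.DiscreteValuationRing.Basic
import Mathlib.LinearAlgebra.FreeModule.PID
import Mathlib.LinearAlgebra.Matrix.Basis
import Mathlib.RingTheory.LocalRing.ResidueField.Basic

/-!
# From an arc in the group to a diagonal curve
-/

set_option autoImplicit false
set_option linter.unusedSectionVars false

universe u

open TensorProduct Matrix LaurentPolynomial

noncomputable section

namespace Groth.ComodLib.HM

section Smith

variable {N : ℕ} {O : Type u} [CommRing O] [IsDomain O] [IsDiscreteValuationRing O]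
  {K : Type u} [Field K] [Algebra O K] [IsFractionRing O K]

/-- a basis as an invertible matrix -/
def basisUnit (b : Module.Basis (Fin N) O (Fin N → O)) : GU N O where
  val := (Pi.basisFun O (Fin N)).toMatrix b
  inv := b.toMatrix (Pi.basisFun O (Fin N))
  val_inv := Module.Basis.toMatrix_mul_toMatrix_flip _ _
  inv_val := Module.Basis.toMatrix_mul_toMatrix_flip _ _

/-- matrices over a discretely valued field are diagonal up to integral invertible factors -/
theorem exists_smith (g : GU N K) {ϖ : O} (hϖ : Irreducible ϖ) (t : Kˣ) (ht : (t : K) = algebraMap O K ϖ) :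
    ∃ (c a : GU N O) (r : Fin N → ℤ),
      g.val = c.val.map (algebraMap O K) * (dUnit t r).val * a.val.map (algebraMap O K) := by
  classical
  obtain ⟨d, hd⟩ := IsLocalization.exist_integer_multiples (nonZeroDivisors O) (Finset.univ : Finset (Fin N × Fin N))
    (fun p => g.val p.1 p.2)
  choose M₀ hM₀ using fun p : Fin N × Fin N => hd p (Finset.mem_univ p)
  let M : Matrix (Fin N) (Fin N) O := fun i j => M₀ (i, j)
  let φ := (algebraMap O K).mapMatrix (m := Fin N)
  have hM : φ M = algebraMap O K d • g.val := by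
    ext i j
    rw [RingHom.mapMatrix_apply, Matrix.map_apply, Matrix.smul_apply, smul_eq_mul]
    exact (hM₀ (i, j)).trans (Algebra.smul_def _ _)
  have hd0 : algebraMap O K d ≠ 0 :=
    (map_ne_zero_iff _ (IsFractionRing.injective O K)).2 (nonZeroDivisors.ne_zero d.2)
  let f := Matrix.toLin' M
  have hf : Function.Injective f := by
    intro x y hxy
    have h1 : φ M *ᵥ (algebraMap O K ∘ x) = φ M *ᵥ (algebraMap O K ∘ y) := by
      ext i
      simp only [φ, RingHom.mapMatrix_apply]
      rw [← RingHom.map_mulVec, ← RingHom.map_mulVec]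
      exact congrArg _ (congrFun hxy i)
    rw [hM, Matrix.smul_mulVec, Matrix.smul_mulVec] at h1
    have h2 := congrArg (fun z => (g⁻¹).val *ᵥ z) (smul_right_injective _ hd0 h1)
    simp only [Matrix.mulVec_mulVec, Units.inv_mul, Matrix.one_mulVec] at h2
    exact funext fun i => IsFractionRing.injective O K (congrFun h2 i)
  let e : (Fin N → O) ≃ₗ[O] LinearMap.range f := LinearEquiv.ofInjective f hf
  obtain ⟨b', a, ab', hab⟩ := Submodule.exists_smith_normal_form_of_rank_eq (Pi.basisFun O (Fin N))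
    (N := LinearMap.range f) e.finrank_eq.symm
  let pre := ab'.map e.symm
  have hpre : ∀ l, M *ᵥ pre l = a l • (b' l : Fin N → O) := fun l => by
    rw [← hab l, ← Matrix.toLin'_apply]
    change ((e (e.symm (ab' l))) : Fin N → O) = _
    rw [e.apply_symm_apply]
  have hprod : M * (basisUnit pre).val = (basisUnit b').val * Matrix.diagonal a := by
    ext i l
    rw [Matrix.mul_diagonal, Matrix.mul_apply]
    simpa [basisUnit, Module.Basis.toMatrix_apply, Matrix.mulVec, dotProduct, mul_comm] using congrFun (hpre l) i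
  have ha : ∀ l, a l ≠ 0 := fun l hl => ab'.ne_zero l (Subtype.ext (by rw [hab, hl, zero_smul]; rfl))
  choose m u hu using fun l => IsDiscreteValuationRing.eq_unit_mul_pow_irreducible (ha l) hϖ
  obtain ⟨m₀, u₀, hu₀⟩ := IsDiscreteValuationRing.eq_unit_mul_pow_irreducible (nonZeroDivisors.ne_zero d.2) hϖ
  let du : GU N O :=
    { val := Matrix.diagonal fun l => ((u l * u₀⁻¹ : Oˣ) : O)
      inv := Matrix.diagonal fun l => (((u l * u₀⁻¹)⁻¹ : Oˣ) : O)
      val_inv := by rw [Matrix.diagonal_mul_diagonal, ← Matrix.diagonal_one]; congr 1; ext l; rw [← Units.val_mul, mul_inv_cancel, Units.val_one]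
      inv_val := by rw [Matrix.diagonal_mul_diagonal, ← Matrix.diagonal_one]; congr 1; ext l; rw [← Units.val_mul, inv_mul_cancel, Units.val_one] }
  let r : Fin N → ℤ := fun l => (m l : ℤ) - m₀
  refine ⟨basisUnit b' * du, (basisUnit pre)⁻¹, r, ?_⟩
  apply smul_right_injective _ hd0
  change algebraMap O K d • g.val = algebraMap O K d • _
  rw [← hM, show M = (basisUnit b').val * Matrix.diagonal a * ((basisUnit pre)⁻¹).val by
    rw [← hprod, Units.mul_inv_cancel_right]]
  rw [map_mul, map_mul, RingHom.mapMatrix_apply, RingHom.mapMatrix_apply, RingHom.mapMatrix_apply,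
    Units.val_mul, Matrix.map_mul, ← Matrix.smul_mul, ← Matrix.mul_smul]
  simp only [Matrix.mul_assoc]
  congr 1
  rw [← Matrix.mul_assoc]
  congr 1
  simp only [du, dUnit_val, Matrix.diagonal_map (map_zero (algebraMap O K)), ← Matrix.diagonal_smul,
    Matrix.diagonal_mul_diagonal]
  congr 1
  ext l
  simp only [Pi.smul_apply, smul_eq_mul, hu₀, hu l, map_mul, map_pow, ← ht, r, Units.val_mul, map_units_inv]
  rw [_root_.zpow_sub, Units.val_mul, zpow_natCast, zpow_natCast, Units.val_inv_eq_inv_val, Units.val_pow_eq_pow_val,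
    Units.val_pow_eq_pow_val]
  have h1 : algebraMap O K (u₀ : O) ≠ 0 :=
    (map_ne_zero_iff _ (IsFractionRing.injective O K)).2 u₀.ne_zero
  have h2 : (t : K) ^ m₀ ≠ 0 := pow_ne_zero _ t.ne_zero
  field_simp

end Smith

section Reduce

variable {k : Type u} [Field k] [IsAlgClosed k] {N : ℕ}
  {A : Type u} [CommRing A] [HopfAlgebra k A] (π : CoordGrp.GLn N k →ₐc[k] A)
  {O : Type u} [CommRing O] [IsDomain O] [IsDiscreteValuationRing O] [Algebra k O]
  {K : Type u} [Field K] [Algebra O K] [IsFractionRing O K] [Algebra k K] [IsScalarTower k O K]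

/-- an arc of the group gives a diagonal curve in the homogeneous space with a limit -/
theorem exists_isCurve (hπ : Function.Surjective π) (a0 : A →ₐ[k] K) (v : Fin N → k) (e : Fin N → O)
    (he : ∀ l, algebraMap O K (e l) = ∑ i, algebraMap k K (v i) * a0 (π (CoordGrp.GLn.X i l))) :
    ∃ (s : Fin N → ℤ) (q : GU N k), IsCurve π s q ∧
      (∀ i, 1 ≤ s i → (v ᵥ* (q⁻¹).val) i = 0) ∧
      ((∀ l, e l ∈ IsLocalRing.maximalIdeal O) → ∀ i, 0 ≤ s i → (v ᵥ* (q⁻¹).val) i = 0) ∧
      (s = 0 → ∀ x, ∃ y, algebraMap O K y = a0 x) := by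
  classical
  obtain ⟨ϖ, hϖ⟩ := IsDiscreteValuationRing.exists_irreducible O
  let ι : O →ₐ[k] K := IsScalarTower.toAlgHom k O K
  let t : Kˣ := Units.mk0 (algebraMap O K ϖ) ((map_ne_zero_iff _ (IsFractionRing.injective O K)).2 hϖ.ne_zero)
  let g : GU N K := gmap a0 (subU π)
  obtain ⟨c, a, r, hg⟩ := exists_smith g hϖ t rfl
  have hg' : g = gmap ι c * dUnit t r * gmap ι a := Units.ext hg
  let s : Fin N → ℤ := -r
  let κ := IsLocalRing.ResidueField O
  let mk : O →ₐ[k] κ := IsScalarTower.toAlgHom k O κ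
  have hmk : ∀ x, x ∈ IsLocalRing.maximalIdeal O → mk x = 0 := fun x hx => (IsLocalRing.residue_eq_zero_iff x).2 hx
  let P := CoordGrp.GLn N k
  let p0 : P →ₐ[k] κ := glPt (gmap mk c⁻¹)
  have := finiteType_GLn (k := k) (N := N)
  obtain ⟨x, hx⟩ := GitQuot.exists_point (k := k) (RingHom.ker p0) (RingHom.ker_ne_top p0)
  let q : GU N k := gmap x (genU k N)
  have hx0 : ∀ F : P, p0 F = 0 → x F = 0 := fun F hF => RingHom.mem_ker.1 (hx (RingHom.mem_ker.2 hF))
  -- the equations
  have hgen : gmap p0 (genU k N) = gmap mk c⁻¹ := by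
    apply Units.ext
    exact Matrix.ext fun i j => glPt_X _ i j
  have hvec : ∀ (i : Fin N), (∑ l, algebraMap k O (v l) * c.val l i) ∈ IsLocalRing.maximalIdeal O →
      (v ᵥ* (q⁻¹).val) i = 0 := by
    intro i hi
    let W : P := ∑ l, algebraMap k P (v l) * ((genU k N)⁻¹).val l i
    have h1 : p0 W = 0 := by
      have hc : ∀ l, p0 (((genU k N)⁻¹).val l i) = mk (c.val l i) := fun l => by
        have := congrArg (fun u : GU N κ => (u⁻¹).val l i) hgen
        simp only [← map_inv, inv_inv, gmap_val, Matrix.map_apply] at this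
        exact this
      simp only [W, map_sum, map_mul, AlgHom.commutes, hc]
      rw [← hmk _ hi]
      simp only [map_sum, map_mul, AlgHom.commutes]
    have h2 := hx0 W h1
    simp only [W, map_sum, map_mul, AlgHom.commutes, Algebra.algebraMap_self, RingHom.id_apply] at h2
    rw [← h2]
    simp only [q, ← map_inv, gmap_val, Matrix.vecMul, dotProduct, Matrix.map_apply]
  -- the vector
  let e' : Fin N → O := e ᵥ* (a⁻¹).val
  have he' : ∀ i, algebraMap O K (e' i) =
      algebraMap O K (∑ l, algebraMap k O (v l) * c.val l i) * ((t ^ r i : Kˣ) : K) := by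
    have hrow : (algebraMap O K ∘ e) = (fun l => algebraMap k K (v l)) ᵥ* g.val := by
      ext l
      rw [Function.comp_apply, he]
      rfl
    intro i
    rw [show algebraMap O K (e' i) = ((algebraMap O K ∘ e) ᵥ* ((a⁻¹).val.map (algebraMap O K))) i from
      RingHom.map_vecMul _ _ _ i, hrow, Matrix.vecMul_vecMul, hg']
    rw [show (gmap ι c * dUnit t r * gmap ι a).val * (a⁻¹).val.map (algebraMap O K) = (gmap ι c).val * (dUnit t r).val by
      have : (gmap ι a⁻¹).val = (a⁻¹).val.map (algebraMap O K) := rfl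
      rw [← this, ← Units.val_mul, ← Units.val_mul, map_inv, mul_inv_cancel_right]]
    rw [← Matrix.vecMul_vecMul, dUnit_val, Matrix.vecMul_diagonal]
    congr 1
    simp only [Matrix.vecMul, dotProduct, map_sum, map_mul, gmap_val, Matrix.map_apply,
      ← IsScalarTower.algebraMap_apply]
    rfl
  have hcase : ∀ i, (∀ h : 0 ≤ s i, 1 ≤ s i ∨ e' i ∈ IsLocalRing.maximalIdeal O) → 0 ≤ s i →
      (v ᵥ* (q⁻¹).val) i = 0 := by
    intro i h hs
    refine hvec i ?_
    obtain ⟨m, hm⟩ := Int.eq_ofNat_of_zero_le hs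
    have hr : r i = -(m : ℤ) := by
      simp only [s, Pi.neg_apply] at hm
      omega
    have heq : (∑ l, algebraMap k O (v l) * c.val l i) = e' i * ϖ ^ m := by
      refine IsFractionRing.injective O K ?_
      rw [map_mul (algebraMap O K) (e' i), he', hr, map_pow, _root_.zpow_neg, zpow_natCast, Units.val_inv_eq_inv_val,
        Units.val_pow_eq_pow_val, mul_assoc, show ((t : K)) = algebraMap O K ϖ from rfl,
        inv_mul_cancel₀ (pow_ne_zero _ (show algebraMap O K ϖ ≠ 0 from t.ne_zero)), mul_one]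
    rw [heq]
    rcases h hs with h1 | h1
    · refine Ideal.mul_mem_left _ _ (Ideal.pow_mem_of_mem _ (hϖ.maximalIdeal_eq.ge (Ideal.mem_span_singleton_self ϖ)) m ?_)
      omega
    · exact Ideal.mul_mem_right _ _ h1
  refine ⟨s, q, ?_, fun i hi => hcase i (fun _ => Or.inl hi) (by omega), fun hE i hi => hcase i (fun _ => Or.inr ?_) hi,
    fun hs0 y => ?_⟩
  · intro f hf n hn
    let Fc : O[T;T⁻¹] := glPt (dUnit (tU O) s * gmap (cL (k := k) O) c⁻¹) f
    let Fa : O[T;T⁻¹] := glPt (dUnit (tU O) s * gmap (cL (k := k) O) a) f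
    have hcomm : ∀ {R' : Type u} [CommRing R'] [Algebra k R'] (φ : O →ₐ[k] R') (X : GU N O),
        gmap (lmap φ) (dUnit (tU O) s * gmap (cL (k := k) O) X) = dUnit (tU R') s * gmap (cL (k := k) R') (gmap φ X) := by
      intro R' _ _ φ X
      rw [map_mul, gmap_dUnit, lmap_tU, gmap_gmap, lmap_comp_cL, ← gmap_gmap]
    have hg1 : gmap (cL (k := k) K) g⁻¹ =
        gmap ((cL (k := k) K).comp (a0.comp (HopfAlgebra.antipodeAlgHom k A))) (subU π) := by
      rw [← gmap_gmap, gmap_subU_antipode]
    have hinvK : glPt (dUnit (tU K) s * gmap (cL (k := k) K) (gmap ι a) * gmap (cL (k := k) K) g⁻¹) f =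
        glPt (dUnit (tU K) s * gmap (cL (k := k) K) (gmap ι a)) f := by
      rw [hg1]
      exact invariant_mul π hf _ _
    have hag : gmap ι a * g⁻¹ = dUnit t s * gmap ι c⁻¹ := by
      rw [hg', map_inv, show dUnit t s = (dUnit t r)⁻¹ from (dUnit_inv t r).symm]
      group
    have hy : dUnit (tU K) s * gmap (cL (k := k) K) (gmap ι a) * gmap (cL (k := k) K) g⁻¹ =
        gmap (scaleT (k := k) t) (dUnit (tU K) s * gmap (cL (k := k) K) (gmap ι c⁻¹)) := by
      have hsc : gmap (scaleT (k := k) t) (gmap (cL (k := k) K) (gmap ι c⁻¹)) =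
          gmap (cL (k := k) K) (gmap ι c⁻¹) := by
        rw [gmap_gmap (scaleT (k := k) t) (cL (k := k) K), scaleT_comp_cL]
      have hDt : gmap (cL (k := k) K) (dUnit t s) =
          dUnit (Units.map ((cL (k := k) K) : K →* K[T;T⁻¹]) t) s := gmap_dUnit _ _ _
      have hsD : gmap (scaleT (k := k) t) (dUnit (tU K) s) =
          dUnit (tU K) s * gmap (cL (k := k) K) (dUnit t s) := by
        rw [hDt, gmap_dUnit, scaleT_tU, dUnit_mul, dUnit_commute]
      have hL : gmap (cL (k := k) K) (gmap ι a) * gmap (cL (k := k) K) g⁻¹ =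
          gmap (cL (k := k) K) (dUnit t s) * gmap (cL (k := k) K) (gmap ι c⁻¹) := by
        rw [← map_mul (gmap (cL (k := k) K)), hag, map_mul (gmap (cL (k := k) K))]
      rw [map_mul (gmap (scaleT (k := k) t)), hsc, hsD, mul_assoc, hL, mul_assoc]
    rw [hy, glPt_gmap_apply, ← hcomm ι, ← hcomm ι, glPt_gmap_apply, glPt_gmap_apply] at hinvK
    have hn' := congrArg (fun z : K[T;T⁻¹] => z.coeff n) hinvK
    simp only [coeff_scaleT, coeff_lmap] at hn'
    obtain ⟨m, hm⟩ := Int.eq_ofNat_of_zero_le (show 0 ≤ -n by omega)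
    have hFc : Fc.coeff n ∈ IsLocalRing.maximalIdeal O := by
      have heq : Fc.coeff n = ϖ ^ m * Fa.coeff n := by
        refine IsFractionRing.injective O K ?_
        change ι (Fc.coeff n) = _
        rw [map_mul, map_pow]
        change _ = algebraMap O K ϖ ^ m * ι (Fa.coeff n)
        rw [← hn', show n = -(m : ℤ) by omega, _root_.zpow_neg, zpow_natCast, Units.val_inv_eq_inv_val,
          Units.val_pow_eq_pow_val, ← mul_assoc, show ((t : K)) = algebraMap O K ϖ from rfl,
          mul_inv_cancel₀ (pow_ne_zero _ (show algebraMap O K ϖ ≠ 0 from t.ne_zero)), one_mul]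
      rw [heq]
      refine Ideal.mul_mem_right _ _ (Ideal.pow_mem_of_mem _ (hϖ.maximalIdeal_eq.ge (Ideal.mem_span_singleton_self ϖ)) m ?_)
      omega
    let Gf : P[T;T⁻¹] := glPt (dUnit (tU P) s * gmap (cL (k := k) P) (genU k N)) f
    have h1 : p0 (Gf.coeff n) = 0 := by
      rw [← coeff_lmap, ← glPt_gmap_apply, map_mul, gmap_dUnit, lmap_tU, gmap_gmap, lmap_comp_cL, ← gmap_gmap,
        hgen, ← hcomm mk, glPt_gmap_apply, coeff_lmap]
      exact hmk _ hFc
    have h2 := hx0 _ h1
    rw [← coeff_lmap, ← glPt_gmap_apply, map_mul, gmap_dUnit, lmap_tU, gmap_gmap, lmap_comp_cL, ← gmap_gmap] at h2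
    exact h2
  · simp only [e', Matrix.vecMul, dotProduct]
    exact Ideal.sum_mem _ fun l _ => Ideal.mul_mem_right _ _ (hE l)
  · obtain ⟨F, rfl⟩ := hπ y
    refine ⟨glPt (c * a) F, ?_⟩
    change ι (glPt (c * a) F) = _
    rw [← glPt_gmap_apply]
    have hr : r = 0 := by simpa [s] using hs0
    have hga : gmap ι (c * a) = g := by
      have hD : dUnit t r = (1 : GU N K) := by apply Units.ext; simp [dUnit_val, hr]
      rw [hg', hD, mul_one, map_mul]
    rw [hga, glPt_gmap, glPt_subU]
    rfl

end Reduce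

end Groth.ComodLib.HM
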